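import Cfsg.Agent.Lib.PushUp.Basic
import Cfsg.Agent.Lib.PGroup.Measure

/-!
# Abelian subgroups of largest order in the pushing-up situation

If a subgroup `Z` of `Z(S)` is not normal in `G`, every abelian subgroup of largest order of `S` not
inside `Q = O_p(G)` covers `S / Q`, and acts on the normal closure of `Z` with fixed points of index
exactly `|S : Q|`.
-/

set_option autoImplicit false
set_option linter.style.haveILetI false

open Subgroup
open CfsgLib.CDLat (card_prod_mul_card_inf)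

namespace CfsgLib.PushUp

universe u

variable {G : Type u} [Group G]

/-- An abelian subgroup of largest order of `S`. -/
def MA (S A : Subgroup G) : Prop :=
  A ≤ S ∧ IsMulCommutative A ∧ ∀ B : Subgroup G, B ≤ S → IsMulCommutative B → Nat.card B ≤ Nat.card A

/-- The conjugate of a subgroup. -/
def cj (g : G) (X : Subgroup G) : Subgroup G := X.map (MulAut.conj g).toMonoidHom

theorem mem_cj {g x : G} {X : Subgroup G} : x ∈ cj g X ↔ g⁻¹ * x * g ∈ X := by
  rw [cj, mem_map_equiv, MulAut.conj_symm_apply]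

theorem conj_mem_cj {g x : G} {X : Subgroup G} (hx : x ∈ X) : g * x * g⁻¹ ∈ cj g X :=
  ⟨x, hx, rfl⟩

theorem cj_mono {g : G} {X Y : Subgroup G} (h : X ≤ Y) : cj g X ≤ cj g Y := map_mono h

theorem card_cj (g : G) (X : Subgroup G) : Nat.card (cj g X) = Nat.card X :=
  card_map_of_injective (MulAut.conj g).injective

theorem cj_normal (g : G) (N : Subgroup G) [N.Normal] : cj g N = N := by
  ext x
  rw [mem_cj]
  exact ⟨fun h => by simpa [mul_assoc] using ‹N.Normal›.conj_mem _ h g,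
    fun h => by simpa [mul_assoc] using ‹N.Normal›.conj_mem _ h g⁻¹⟩

theorem cj_eq_of_mem_normalizer {g : G} {X : Subgroup G} (hg : g ∈ normalizer (X : Set G)) :
    cj g X = X := by
  ext x
  rw [mem_cj]
  exact ((mem_normalizer_iff''.1 hg) x).symm

theorem cj_cj_inv (g : G) (X : Subgroup G) : cj g (cj g⁻¹ X) = X := by
  ext x
  rw [mem_cj, mem_cj, inv_inv]
  rw [show g * (g⁻¹ * x * g) * g⁻¹ = x by group]

theorem isMulCommutative_cj {g : G} {X : Subgroup G} (h : IsMulCommutative X) :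
    IsMulCommutative (cj g X) := by
  refine le_centralizer_iff_isMulCommutative.1 fun x hx => mem_centralizer_iff.2 fun y hy => ?_
  obtain ⟨a, ha, rfl⟩ := hx
  obtain ⟨b, hb, rfl⟩ := hy
  rw [← map_mul, ← map_mul, mem_centralizer_iff.1 (le_centralizer_iff_isMulCommutative.2 h ha) b hb]

theorem mem_normalizer_of_forall {X : Subgroup G} {g : G} (h1 : ∀ x ∈ X, g * x * g⁻¹ ∈ X)
    (h2 : ∀ x ∈ X, g⁻¹ * x * g ∈ X) : g ∈ normalizer (X : Set G) := by
  refine mem_normalizer_iff.2 fun x => ⟨h1 x, fun hx => ?_⟩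
  simpa [mul_assoc] using h2 _ hx

variable {S : Subgroup G}

theorem ma_iff {A : Subgroup G} :
    MA S A ↔ A ≤ S ∧ A.subgroupOf S ∈ Cfsg.maxAbelianSubgroups ↥S := by
  constructor
  · rintro ⟨hAS, hA, hmax⟩
    refine ⟨hAS, inferInstance, fun B hB => ?_⟩
    rw [Nat.card_congr (subgroupOfEquivOfLe hAS).toEquiv, ← card_map_of_injective S.subtype_injective]
    exact hmax _ (map_subtype_le B) inferInstance
  · rintro ⟨hAS, hA, hmax⟩
    refine ⟨hAS, ?_, fun B hBS hB => ?_⟩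
    · haveI := hA
      rw [← inf_eq_left.2 hAS, ← subgroupOf_map_subtype]
      infer_instance
    · rw [← Nat.card_congr (subgroupOfEquivOfLe hBS).toEquiv,
        ← Nat.card_congr (subgroupOfEquivOfLe hAS).toEquiv]
      haveI := hB
      exact hmax _ inferInstance

theorem ma_map {A : Subgroup ↥S} (h : A ∈ Cfsg.maxAbelianSubgroups ↥S) : MA S (A.map S.subtype) := by
  refine ma_iff.2 ⟨map_subtype_le A, ?_⟩
  rwa [subgroupOf, comap_map_eq_self_of_injective S.subtype_injective]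

theorem le_J {A : Subgroup G} (h : MA S A) : A ≤ Cfsg.thompsonSubgroupAOf S := by
  obtain ⟨hAS, hA⟩ := ma_iff.1 h
  refine le_trans (le_of_eq ?_) (map_mono (le_sSup hA))
  rw [subgroupOf_map_subtype, inf_eq_left.2 hAS]

theorem J_le {X : Subgroup G} (h : ∀ A, MA S A → A ≤ X) : Cfsg.thompsonSubgroupAOf S ≤ X := by
  unfold Cfsg.thompsonSubgroupAOf Cfsg.thompsonSubgroupA
  rw [map_le_iff_le_comap]
  exact sSup_le fun A hA => map_le_iff_le_comap.1 (h _ (ma_map hA))

theorem J_le_self : Cfsg.thompsonSubgroupAOf S ≤ S := map_subtype_le _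

theorem ma_cj {A : Subgroup G} (h : MA S A) {g : G} (hg : cj g A ≤ S) : MA S (cj g A) :=
  ⟨hg, isMulCommutative_cj h.2.1, fun B hB hBc => (card_cj g A).symm ▸ h.2.2 B hB hBc⟩

theorem cj_J_le {g : G} (hg : g ∈ normalizer (S : Set G)) :
    cj g (Cfsg.thompsonSubgroupAOf S) ≤ Cfsg.thompsonSubgroupAOf S := by
  rw [cj, map_le_iff_le_comap]
  refine J_le fun A hA => ?_
  rw [← map_le_iff_le_comap]
  exact le_J (ma_cj hA ((cj_mono hA.1).trans (cj_eq_of_mem_normalizer hg).le))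

theorem normalizer_le_J :
    normalizer (S : Set G) ≤ normalizer (Cfsg.thompsonSubgroupAOf S : Set G) := fun g hg =>
  mem_normalizer_of_forall (fun _ hx => cj_J_le hg (conj_mem_cj hx))
    fun x hx => by simpa using cj_J_le (inv_mem hg) (conj_mem_cj (g := g⁻¹) hx)

theorem normalizer_le_Jz :
    normalizer (S : Set G) ≤ normalizer (Cfsg.centerThompsonAOf S : Set G) := by
  refine le_trans (le_trans normalizer_le_J (le_inf le_rfl ?_)) inf_normalizer_le_normalizer_inf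
  intro g hg
  refine mem_normalizer_of_forall (fun x hx => mem_centralizer_iff.2 fun y hy => ?_)
    (fun x hx => mem_centralizer_iff.2 fun y hy => ?_)
  · have h := mem_centralizer_iff.1 hx _ ((mem_normalizer_iff''.1 hg y).1 hy)
    calc y * (g * x * g⁻¹) = g * (g⁻¹ * y * g * x) * g⁻¹ := by group
      _ = g * (x * (g⁻¹ * y * g)) * g⁻¹ := by rw [h]
      _ = _ := by group
  · have h := mem_centralizer_iff.1 hx _ ((mem_normalizer_iff.1 hg y).1 hy)
    calc y * (g⁻¹ * x * g) = g⁻¹ * (g * y * g⁻¹ * x) * g := by group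
      _ = g⁻¹ * (x * (g * y * g⁻¹)) * g := by rw [h]
      _ = _ := by group

variable [Finite G]

theorem exists_ma (S : Subgroup G) : ∃ A, MA S A := by
  obtain ⟨A, hA⟩ := CfsgLib.CDLat.maxAbelian_nonempty (G := ↥S)
  exact ⟨_, ma_map hA⟩

theorem MA.centralizer_le {A : Subgroup G} (h : MA S A) : S ⊓ centralizer (A : Set G) ≤ A := by
  rintro x hx
  obtain ⟨hxS, hxA⟩ := mem_inf.1 hx
  have hab : IsMulCommutative ↥(A ⊔ zpowers x) := by
    refine CfsgLib.CDLat.isMulCommutative_sup h.2.1 inferInstance ?_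
    rw [le_centralizer_iff, zpowers_le]
    exact hxA
  have := eq_of_le_of_card_ge (le_sup_left : A ≤ A ⊔ zpowers x)
    (h.2.2 _ (sup_le h.1 (zpowers_le.2 hxS)) hab)
  rw [this]
  exact mem_sup_right (mem_zpowers x)

theorem Jz_le {A : Subgroup G} (h : MA S A) : Cfsg.centerThompsonAOf S ≤ A :=
  le_trans (le_inf (inf_le_left.trans J_le_self)
    (inf_le_right.trans (centralizer_le (le_J h)))) h.centralizer_le

theorem Jz_le_self : Cfsg.centerThompsonAOf S ≤ S := inf_le_left.trans J_le_self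

theorem center_le_Jz : S ⊓ centralizer (S : Set G) ≤ Cfsg.centerThompsonAOf S := by
  obtain ⟨A, hA⟩ := exists_ma S
  exact le_inf ((le_inf inf_le_left (inf_le_right.trans (centralizer_le hA.1))).trans
    (hA.centralizer_le.trans (le_J hA))) (inf_le_right.trans (centralizer_le J_le_self))

theorem card_sup_of_le_centralizer {X V : Subgroup G} (h : X ≤ centralizer (V : Set G)) :
    Nat.card ↥(X ⊔ V) * Nat.card ↥(X ⊓ V) = Nat.card X * Nat.card V := by
  have hXN : X ≤ normalizer (V : Set G) := h.trans (Subgroup.centralizer_le_normalizer _)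
  rw [← card_prod_mul_card_inf X V, ← coe_mul_of_left_le_normalizer_right X V hXN]
  rfl

/-- The structure of the action on a noncentral normal subgroup of the centre of `Q`. -/
structure Off (p : ℕ) (S V : Subgroup G) : Prop where
  normal : V.Normal
  le : V ≤ Cfsg.pCore p G
  comm : IsMulCommutative V
  cent : Cfsg.pCore p G ≤ centralizer (V : Set G)
  fix : ∀ a ∈ S, a ∉ Cfsg.pCore p G → V ⊓ centralizer ({a} : Set G) = V ⊓ centralizer (S : Set G)
  index : (V ⊓ centralizer (S : Set G)).relIndex V = (Cfsg.pCore p G).relIndex S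
  one_lt : 1 < (Cfsg.pCore p G).relIndex S
  sup : ∀ A, MA S A → ¬ A ≤ Cfsg.pCore p G → A ⊔ Cfsg.pCore p G = S
  replace_ma : ∀ A, MA S A → ¬ A ≤ Cfsg.pCore p G → MA S (A ⊓ Cfsg.pCore p G ⊔ V)
  quad : ∀ v ∈ V, ∀ s ∈ S, s * v * s⁻¹ * v⁻¹ ∈ V ⊓ centralizer (S : Set G)

variable {p : ℕ} [Fact p.Prime]

/-- Basic properties of the normal closure of a subgroup of `Z(S)`. -/
theorem Sit.closure_facts (sit : Sit p S) {Z : Subgroup G}
    (hZ : Z ≤ S ⊓ centralizer (S : Set G)) :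
    normalClosure (Z : Set G) ≤ Cfsg.pCore p G ∧
      Cfsg.pCore p G ≤ centralizer (normalClosure (Z : Set G) : Set G) ∧
      IsMulCommutative (normalClosure (Z : Set G)) ∧
      (¬ Z.Normal → centralizer (normalClosure (Z : Set G) : Set G) ⊔ S ≠ ⊤) := by
  haveI := pCore_normal p G
  have h1 : Z ≤ centralizer (Cfsg.pCore p G : Set G) :=
    (hZ.trans inf_le_right).trans (centralizer_le sit.pCore_le)
  have h2 : normalClosure (Z : Set G) ≤ centralizer (Cfsg.pCore p G : Set G) :=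
    normalClosure_le_normal h1
  have h3 := h2.trans sit.constr
  refine ⟨h3, le_centralizer_iff.1 h2,
    le_centralizer_iff_isMulCommutative.1 (h3.trans (le_centralizer_iff.1 h2)), fun hn h => hn ?_⟩
  refine normal_of_centralized h ?_ (hZ.trans inf_le_right)
  exact fun z hz => mem_centralizer_iff.2 fun c hc =>
    (mem_centralizer_iff.1 hc z (subset_normalClosure hz)).symm

/-- The structure theorem. -/
theorem Sit.off (sit : Sit p S) {Z : Subgroup G} (hZ : Z ≤ S ⊓ centralizer (S : Set G))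
    (hn : ¬ Z.Normal) {A₀ : Subgroup G} (hA₀ : MA S A₀) (hA₀Q : ¬ A₀ ≤ Cfsg.pCore p G) :
    Off p S (normalClosure (Z : Set G)) := by
  classical
  obtain ⟨hVQ, hQV, hVab, hCS⟩ := sit.closure_facts hZ
  obtain ⟨V, hV⟩ : ∃ V, V = normalClosure (Z : Set G) := ⟨_, rfl⟩
  rw [← hV] at hVQ hQV hVab hCS ⊢
  haveI hVn : V.Normal := hV ▸ normalClosure_normal
  haveI := pCore_normal p G
  have hQS := sit.pCore_le
  obtain ⟨q, hq1, hqS, -, hqV⟩ := sit.exists_q
  have hVp : IsPGroup p V := sit.isPGroup.to_le (hVQ.trans hQS)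
  have hb := hqV V hVn hVp (hCS hn)
  -- the counting for one subgroup
  have key : ∀ A, MA S A → ¬ A ≤ Cfsg.pCore p G →
      A ⊔ Cfsg.pCore p G = S ∧ MA S (A ⊓ Cfsg.pCore p G ⊔ V) ∧
      (V ⊓ centralizer (S : Set G)).relIndex V = q ∧ (Cfsg.pCore p G).relIndex S = q := by
    intro A hA hAQ
    obtain ⟨a, haA, haQ⟩ := SetLike.not_le_iff_exists.1 hAQ
    haveI := hA.2.1
    obtain ⟨E, hE⟩ : ∃ E, E = V ⊓ centralizer (A : Set G) := ⟨_, rfl⟩
    have hEV : E ≤ V := hE ▸ inf_le_left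
    have hEA : E ≤ A := hE ▸
      (inf_le_inf_right _ (hVQ.trans hQS)).trans hA.centralizer_le
    have hinf : A ⊓ Cfsg.pCore p G ⊓ V = E := by
      refine le_antisymm ?_ (le_inf (le_inf hEA (hEV.trans hVQ)) hEV)
      rw [hE]
      exact le_inf inf_le_right ((inf_le_left.trans inf_le_left).trans (le_centralizer A))
    have hcomm : A ⊓ Cfsg.pCore p G ≤ centralizer (V : Set G) := inf_le_right.trans hQV
    obtain ⟨B, hB⟩ : ∃ B, B = A ⊓ Cfsg.pCore p G ⊔ V := ⟨_, rfl⟩
    have hBS : B ≤ S := hB ▸ sup_le (inf_le_left.trans hA.1) (hVQ.trans hQS)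
    have hBab : IsMulCommutative B :=
      hB ▸ CfsgLib.CDLat.isMulCommutative_sup (le_centralizer_iff_isMulCommutative.1 ((inf_le_left.trans (le_centralizer A)).trans
        (centralizer_le inf_le_left))) hVab hcomm
    have hcB : Nat.card B = Nat.card ↥(A ⊓ Cfsg.pCore p G) * E.relIndex V := by
      have h1 := card_sup_of_le_centralizer hcomm
      rw [hinf, ← hB, ← relIndex_bot_left V, ← relIndex_mul_relIndex ⊥ E V bot_le hEV,
        relIndex_bot_left] at h1
      exact Nat.eq_of_mul_eq_mul_right (Nat.card_pos (α := E)) (h1.trans (by ring))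
    have hcA : Nat.card A = Nat.card ↥(A ⊓ Cfsg.pCore p G) * (Cfsg.pCore p G).relIndex A := by
      rw [← relIndex_bot_left A, ← relIndex_mul_relIndex ⊥ (A ⊓ Cfsg.pCore p G) A bot_le inf_le_left,
        relIndex_bot_left, inf_relIndex_left]
    have hle := hA.2.2 B hBS hBab
    rw [hcB, hcA] at hle
    have h1 : E.relIndex V ≤ (Cfsg.pCore p G).relIndex A :=
      Nat.le_of_mul_le_mul_left hle Nat.card_pos
    have h2 : (Cfsg.pCore p G).relIndex A ≤ (Cfsg.pCore p G).relIndex S :=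
      relIndex_le_of_le_right hA.1 (CfsgLib.ModBound.relIndex_pos _ _).ne'
    have h3 : q ≤ E.relIndex V := (hb a (hA.1 haA) haQ).trans
      (Nat.le_of_dvd (CfsgLib.ModBound.relIndex_pos _ _) (relIndex_dvd_of_le_left V
        (hE ▸ inf_le_inf_left V (centralizer_le (Set.singleton_subset_iff.2 haA)))))
    have hsup : A ⊔ Cfsg.pCore p G = S := by
      refine le_antisymm (sup_le hA.1 hQS) (relIndex_eq_one.1 ?_)
      have h4 := relIndex_mul_relIndex (Cfsg.pCore p G) (A ⊔ Cfsg.pCore p G) S le_sup_right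
        (sup_le hA.1 hQS)
      rw [relIndex_sup_right] at h4
      refine Nat.eq_of_mul_eq_mul_left (CfsgLib.ModBound.relIndex_pos (Cfsg.pCore p G) A) ?_
      rw [h4, mul_one]
      omega
    refine ⟨hsup, hB ▸ ⟨hBS, hBab, fun B' hB' hB'c => (hA.2.2 B' hB' hB'c).trans ?_⟩, ?_, by omega⟩
    · rw [hcA, hcB]
      exact Nat.mul_le_mul_left _ (by omega)
    · have hEC : E = V ⊓ centralizer (S : Set G) := by
        refine le_antisymm (le_inf hEV ?_) (hE ▸ inf_le_inf_left V (centralizer_le hA.1))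
        rw [← hsup, CfsgLib.CDLat.centralizer_sup]
        exact le_inf (hE ▸ inf_le_right) (hEV.trans (le_centralizer_iff.1 hQV))
      rw [← hEC]
      omega
  obtain ⟨hsup₀, -, hidx, hQS'⟩ := key A₀ hA₀ hA₀Q
  have hfix : ∀ a ∈ S, a ∉ Cfsg.pCore p G →
      V ⊓ centralizer ({a} : Set G) = V ⊓ centralizer (S : Set G) := by
    intro a haS haQ
    have hle : V ⊓ centralizer (S : Set G) ≤ V ⊓ centralizer ({a} : Set G) :=
      inf_le_inf_left V (centralizer_le (Set.singleton_subset_iff.2 haS))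
    refine le_antisymm (relIndex_eq_one.1 ?_) hle
    have h4 := relIndex_mul_relIndex _ _ V hle inf_le_left
    rw [hidx] at h4
    have h5 := hb a haS haQ
    by_contra hne
    have h6 := CfsgLib.ModBound.relIndex_pos (V ⊓ centralizer (S : Set G))
      (V ⊓ centralizer ({a} : Set G))
    have h7 := Nat.mul_le_mul (show 2 ≤ (V ⊓ centralizer (S : Set G)).relIndex
      (V ⊓ centralizer ({a} : Set G)) by omega) h5
    omega
  refine ⟨hVn, hVQ, hVab, hQV, hfix, hidx.trans hQS'.symm, hQS' ▸ hq1,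
    fun A h1 h2 => (key A h1 h2).1, fun A h1 h2 => (key A h1 h2).2.1, ?_⟩
  -- quadratic action
  obtain ⟨C, hC⟩ : ∃ C, C = V ⊓ centralizer (S : Set G) := ⟨_, rfl⟩
  rw [← hC]
  intro w hw s hs
  haveI := hVab
  have hVc : ∀ x ∈ V, ∀ y ∈ V, x * y = y * x := fun x hx y hy =>
    mem_centralizer_iff.1 (le_centralizer V hy) x hx
  have hcjV : ∀ t x : G, x ∈ V → t * x * t⁻¹ ∈ V := fun t x hx => hVn.conj_mem x hx t
  have hCfix : ∀ x ∈ C, ∀ t ∈ S, t * x * t⁻¹ = x := fun x hx t ht => by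
    rw [mem_centralizer_iff.1 (mem_inf.1 (hC ▸ hx : x ∈ V ⊓ centralizer (S : Set G))).2 t ht,
      mul_inv_cancel_right]
  have hQfix : ∀ x ∈ V, ∀ t ∈ Cfsg.pCore p G, t * x * t⁻¹ = x := fun x hx t ht => by
    rw [← mem_centralizer_iff.1 (hQV ht) x hx, mul_inv_cancel_right]
  by_cases hwC : w ∈ C
  · rw [hCfix w hwC s hs, mul_inv_cancel]; exact one_mem C
  obtain ⟨f, hf⟩ : ∃ f : ↥S → ↥V ⧸ C.subgroupOf V,
      ∀ t : ↥S, f t = QuotientGroup.mk ⟨(t : G) * w * (t : G)⁻¹, hcjV t w hw⟩ := ⟨_, fun _ => rfl⟩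
  have hfQ : ∀ a b : ↥S, a⁻¹ * b ∈ (Cfsg.pCore p G).subgroupOf S → f a = f b := by
    intro a b hab
    rw [hf, hf]
    congr 1
    refine Subtype.ext ?_
    have h : ((a⁻¹ * b : ↥S) : G) * w * ((a⁻¹ * b : ↥S) : G)⁻¹ = w :=
      hQfix w hw _ (mem_subgroupOf.1 hab)
    show (a : G) * w * (a : G)⁻¹ = (b : G) * w * (b : G)⁻¹
    rw [show (b : G) * w * (b : G)⁻¹ = a * ((a⁻¹ * b : ↥S) * w * ((a⁻¹ * b : ↥S) : G)⁻¹) * (a : G)⁻¹ by
      simp [mul_assoc]]
    rw [h]
  obtain ⟨f', hf'⟩ : ∃ f' : ↥S ⧸ (Cfsg.pCore p G).subgroupOf S → ↥V ⧸ C.subgroupOf V,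
      ∀ t : ↥S, f' (QuotientGroup.mk t) = f t :=
    ⟨Quotient.lift f fun a b hab => hfQ a b (QuotientGroup.leftRel_apply.1 hab), fun _ => rfl⟩
  have hcard : Nat.card (↥S ⧸ (Cfsg.pCore p G).subgroupOf S) = Nat.card (↥V ⧸ C.subgroupOf V) :=
    (hQS'.trans hidx.symm).trans (hC ▸ rfl)
  have hnot : ¬ Function.Injective f' := fun hinj => by
    obtain ⟨x, hx⟩ := ((Nat.bijective_iff_injective_and_card f').2 ⟨hinj, hcard⟩).2
      (QuotientGroup.mk 1)
    obtain ⟨t, rfl⟩ := QuotientGroup.mk_surjective x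
    rw [hf', hf, eq_comm, QuotientGroup.eq, mem_subgroupOf] at hx
    simp only [inv_one, one_mul] at hx
    refine hwC ?_
    have := hCfix _ hx (t : G)⁻¹ (inv_mem t.2)
    simp [mul_assoc] at this
    rwa [show ((t : G) * w * (t : G)⁻¹) = w by simpa [mul_assoc] using this.symm] at hx
  obtain ⟨x, y, hxy, hne⟩ := Function.not_injective_iff.1 hnot
  obtain ⟨b, rfl⟩ := QuotientGroup.mk_surjective x
  obtain ⟨b', rfl⟩ := QuotientGroup.mk_surjective y
  rw [hf', hf', hf, hf, QuotientGroup.eq, mem_subgroupOf] at hxy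
  obtain ⟨c, hc⟩ : ∃ c, c = (b : G)⁻¹ * b' := ⟨_, rfl⟩
  have hcS : c ∈ S := hc ▸ mul_mem (inv_mem b.2) b'.2
  have hcQ : c ∉ Cfsg.pCore p G := fun h => hne (QuotientGroup.eq.2 (mem_subgroupOf.2 (by
    simpa [hc] using h)))
  obtain ⟨e, he⟩ : ∃ e, e = w⁻¹ * (c * w * c⁻¹) := ⟨_, rfl⟩
  have heC : e ∈ C := by
    have h := hCfix _ hxy (b : G)⁻¹ (inv_mem b.2)
    rw [← h] at hxy
    refine (congrArg (· ∈ C) ?_).mp hxy
    simp [he, hc, mul_assoc]
  have hcw : c * w * c⁻¹ = w * e := by rw [he]; group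
  -- `S / Q` is commutative
  have hSc : (s * c)⁻¹ * (c * s) ∈ Cfsg.pCore p G := by
    rw [← hsup₀, ← SetLike.mem_coe, Subgroup.mul_normal] at hs hcS
    obtain ⟨a₁, ha₁, q₁, hq₁, rfl⟩ := hs
    obtain ⟨a₂, ha₂, q₂, hq₂, rfl⟩ := hcS
    haveI := hA₀.2.1
    have hcm : a₁ * a₂ = a₂ * a₁ := mem_centralizer_iff.1 (le_centralizer A₀ ha₂) a₁ ha₁
    rw [← QuotientGroup.eq_one_iff (N := Cfsg.pCore p G)]
    simp only [QuotientGroup.mk_mul, QuotientGroup.mk_inv, (QuotientGroup.eq_one_iff q₁).2 hq₁,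
      (QuotientGroup.eq_one_iff q₂).2 hq₂, mul_one]
    rw [← QuotientGroup.mk_mul, ← QuotientGroup.mk_mul, hcm, inv_mul_cancel]
  obtain ⟨u, hu⟩ : ∃ u, u = s * w * s⁻¹ * w⁻¹ := ⟨_, rfl⟩
  have huV : u ∈ V := hu ▸ mul_mem (hcjV s w hw) (inv_mem hw)
  rw [← hu, hC, ← hfix c hcS hcQ]
  refine mem_inf.2 ⟨huV, mem_centralizer_singleton_iff.2 ?_⟩
  have h1 : c * u * c⁻¹ = u := by
    have h2 : c * s * w * (c * s)⁻¹ = s * c * w * (s * c)⁻¹ := by
      calc c * s * w * (c * s)⁻¹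
          = s * c * ((s * c)⁻¹ * (c * s) * w * ((s * c)⁻¹ * (c * s))⁻¹) * (s * c)⁻¹ := by group
        _ = _ := by rw [hQfix w hw _ hSc]
    calc c * u * c⁻¹ = (c * s * w * (c * s)⁻¹) * (c * w * c⁻¹)⁻¹ := by rw [hu]; group
      _ = s * (c * w * c⁻¹) * s⁻¹ * (c * w * c⁻¹)⁻¹ := by rw [h2]; group
      _ = (s * w * s⁻¹) * (s * e * s⁻¹) * e⁻¹ * w⁻¹ := by rw [hcw]; group
      _ = _ := by rw [hCfix e heC s hs, hu]; group
  calc u * c = c * u * c⁻¹ * c := by rw [h1]
    _ = c * u := by group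

end CfsgLib.PushUp
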