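import Cfsg.Prelude.Def_BaumannBlocks
import Cfsg.Agent.Lib.PGroup.Measure
import Cfsg.Agent.Lib.Coprime.GeneralizedFittingQuotient
import Cfsg.Agent.Lib.LocalStructure.Reduced
import Cfsg.Agent.Lib.PushUp.Offender
import Cfsg.Agent.S3007

/-!
# Centrally large subgroups of a subgroup, seen in the ambient group
-/

set_option autoImplicit false
set_option linter.style.haveILetI false

open Subgroup
open scoped commutatorElement

namespace CfsgLib.PushUp

universe u

variable {G : Type u} [Group G]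

/-- The centre of a subgroup, in the ambient group. -/
def ctr (R : Subgroup G) : Subgroup G := R ⊓ centralizer (R : Set G)

/-- The Frattini subgroup of a subgroup, in the ambient group. -/
def Fr (R : Subgroup G) : Subgroup G := (frattini ↥R).map R.subtype

theorem ctr_le (R : Subgroup G) : ctr R ≤ R := inf_le_left

theorem ctr_comm {R : Subgroup G} {z y : G} (hz : z ∈ ctr R) (hy : y ∈ R) : y * z = z * y :=
  mem_centralizer_iff.1 (mem_inf.1 hz).2 y hy

theorem ctr_map {H : Type*} [Group H] {f : G →* H} (hf : Function.Injective f) (R : Subgroup G) :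
    (ctr R).map f = ctr (R.map f) := by
  ext y
  constructor
  · rintro ⟨x, hx, rfl⟩
    refine mem_inf.2 ⟨mem_map_of_mem f (mem_inf.1 hx).1, mem_centralizer_iff.2 ?_⟩
    rintro _ ⟨r, hr, rfl⟩
    rw [← map_mul, ctr_comm hx hr, map_mul]
  · intro hy
    obtain ⟨x, hx, rfl⟩ := (mem_inf.1 hy).1
    refine mem_map_of_mem f (mem_inf.2 ⟨hx, mem_centralizer_iff.2 fun r hr => hf ?_⟩)
    rw [map_mul, map_mul]
    exact ctr_comm hy (mem_map_of_mem f hr)

theorem omega_ctr_map {H : Type*} [Group H] {f : G →* H} (hf : Function.Injective f) (p : ℕ)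
    (R : Subgroup G) : (Cfsg.omegaOne p (ctr R)).map f = Cfsg.omegaOne p (ctr (R.map f)) := by
  rw [← ctr_map hf, Cfsg.omegaOne, Cfsg.omegaOne, MonoidHom.map_closure]
  congr 1
  ext y
  constructor
  · rintro ⟨x, ⟨hx, hxp⟩, rfl⟩
    exact ⟨mem_map_of_mem f hx, by rw [← map_pow, hxp, map_one]⟩
  · rintro ⟨⟨x, hx, rfl⟩, hp⟩
    exact ⟨x, ⟨hx, hf (by rw [map_pow, hp, map_one])⟩, rfl⟩

theorem Fr_map {H : Type*} [Group H] {f : G →* H} (hf : Function.Injective f) (R : Subgroup G) :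
    Fr (R.map f) = (Fr R).map f := by
  obtain ⟨e, he⟩ : ∃ e : ↥R ≃* ↥(R.map f), ∀ x : ↥R, (e x : H) = f x :=
    ⟨R.equivMapOfInjective f hf, fun _ => rfl⟩
  have h1 : frattini ↥(R.map f) = (frattini ↥R).map e.toMonoidHom := by
    refine le_antisymm ?_ (CfsgLib.Coprime.map_frattini_le_of_surjective e.surjective)
    intro y hy
    exact ⟨e.symm y, CfsgLib.Coprime.map_frattini_le_of_surjective
      (f := e.symm.toMonoidHom) e.symm.surjective ⟨y, hy, rfl⟩, e.apply_symm_apply y⟩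
  rw [Fr, Fr, h1, map_map, map_map]
  exact congrArg (fun g => (frattini ↥R).map g) (MonoidHom.ext he)

variable (S : Subgroup G)

/-- A centrally large subgroup of `S`. -/
def CL (R : Subgroup G) : Prop := R ≤ S ∧ Cfsg.IsCentrallyLarge (R.subgroupOf S)

/-- A minimal centrally large subgroup of `S`. -/
def MCL (R : Subgroup G) : Prop := R ≤ S ∧ Cfsg.IsMinimalCentrallyLarge (R.subgroupOf S)

/-- A minimal centrally large subgroup with the largest `Ω₁` of the centre. -/
def Fam (p : ℕ) (R : Subgroup G) : Prop :=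
  MCL S R ∧ ∀ R₁, MCL S R₁ →
    Nat.card ↥(Cfsg.omegaOne p (ctr R₁)) ≤ Nat.card ↥(Cfsg.omegaOne p (ctr R))

variable {S} [Finite G]

theorem measure_subgroupOf {R : Subgroup G} (h : R ≤ S) :
    Nat.card ↥(R.subgroupOf S) * Nat.card ↥(center ↥(R.subgroupOf S)) =
      Nat.card R * Nat.card ↥(ctr R) := by
  rw [CfsgLib.CDLat.card_center_eq]
  congr 1
  · rw [Nat.card_congr (subgroupOfEquivOfLe h).toEquiv]
  · change Nat.card ↥(ctr (R.subgroupOf S)) = _
    rw [← card_map_of_injective S.subtype_injective, ctr_map S.subtype_injective,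
      map_subgroupOf_eq_of_le h]

theorem le_max {R : Subgroup G} (h : R ≤ S) :
    Nat.card R * Nat.card ↥(ctr R) ≤ Cfsg.maxCentralProduct ↥S :=
  measure_subgroupOf h ▸ CfsgLib.CDLat.central_measure_le_max _

theorem cl_of_eq {R : Subgroup G} (h : R ≤ S)
    (he : Cfsg.maxCentralProduct ↥S ≤ Nat.card R * Nat.card ↥(ctr R)) : CL S R :=
  ⟨h, (measure_subgroupOf h).trans (le_antisymm (le_max h) he)⟩

theorem CL.measure {R : Subgroup G} (h : CL S R) :
    Nat.card R * Nat.card ↥(ctr R) = Cfsg.maxCentralProduct ↥S :=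
  (measure_subgroupOf h.1).symm.trans h.2

theorem MCL.cl {R : Subgroup G} (h : MCL S R) : CL S R := ⟨h.1, h.2.1⟩

theorem MCL.eq_of_le {R X : Subgroup G} (h : MCL S R) (hX : CL S X) (hle : X ≤ R) : X = R := by
  have h1 := h.2.2 _ (comap_mono hle) hX.2
  rw [← map_subgroupOf_eq_of_le hX.1, ← map_subgroupOf_eq_of_le h.1]
  exact congrArg (Subgroup.map S.subtype) h1

theorem mcl_map {Q : Subgroup ↥S} :
    MCL S (Q.map S.subtype) ↔ Cfsg.IsMinimalCentrallyLarge Q := by
  have e : (Q.map S.subtype).subgroupOf S = Q :=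
    comap_map_eq_self_of_injective S.subtype_injective Q
  rw [MCL, e]
  exact and_iff_right (map_subtype_le Q)

theorem exists_mcl_le {X : Subgroup G} (h : CL S X) : ∃ R ≤ X, MCL S R := by
  obtain ⟨R, hRX, hR⟩ := CfsgLib.CDLat.exists_mcl_le h.2
  refine ⟨R.map S.subtype, ?_, mcl_map.2 hR⟩
  rw [← map_subgroupOf_eq_of_le h.1]
  exact map_mono hRX

theorem exists_mcl (S : Subgroup G) : ∃ R, MCL S R := by
  obtain ⟨Q, hQ⟩ := CfsgLib.CDLat.exists_cl (G := ↥S)
  obtain ⟨R, -, hR⟩ := CfsgLib.CDLat.exists_mcl_le hQ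
  exact ⟨_, mcl_map.2 hR⟩

theorem CL.centralizer_le {R : Subgroup G} (h : CL S R) : S ⊓ centralizer (R : Set G) ≤ R := by
  intro x hx
  obtain ⟨hxS, hxC⟩ := mem_inf.1 hx
  exact mem_subgroupOf.1 ((CfsgLib.CDLat.cl_iff.1 h.2).2
    (show (⟨x, hxS⟩ : ↥S) ∈ centralizer ((R.subgroupOf S : Subgroup ↥S) : Set ↥S) from
      mem_centralizer_iff.2 fun r hr => Subtype.ext (mem_centralizer_iff.1 hxC r hr)))

theorem CL.center_le {R : Subgroup G} (h : CL S R) : S ⊓ centralizer (S : Set G) ≤ ctr R := by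
  have h1 : S ⊓ centralizer (S : Set G) ≤ centralizer (R : Set G) :=
    inf_le_right.trans (Subgroup.centralizer_le h.1)
  exact le_inf ((le_inf inf_le_left h1).trans h.centralizer_le) h1

theorem MCL.uniform {p : ℕ} [Fact p.Prime] (hS : IsPGroup p S) {R R₁ : Subgroup G}
    (h : MCL S R) (h₁ : MCL S R₁) :
    Nat.card R = Nat.card R₁ ∧ ⁅R, R⁆ = ⁅R₁, R₁⁆ := by
  obtain ⟨-, hc, hcard, -, -⟩ := Cfsg.Agent.S3007.result ↥S hS _ _ h.2 h₁.2
  constructor
  · rwa [Nat.card_congr (subgroupOfEquivOfLe h.1).toEquiv,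
      Nat.card_congr (subgroupOfEquivOfLe h₁.1).toEquiv] at hcard
  · have := congrArg (Subgroup.map S.subtype) hc
    rwa [map_commutator, map_commutator, map_subgroupOf_eq_of_le h.1,
      map_subgroupOf_eq_of_le h₁.1] at this

theorem CL.mcl {p : ℕ} [Fact p.Prime] (hS : IsPGroup p S) {X R : Subgroup G} (hX : CL S X)
    (hR : MCL S R) (hc : Nat.card X = Nat.card R) : MCL S X := by
  obtain ⟨R', hle, hR'⟩ := exists_mcl_le hX
  have := (MCL.uniform hS hR' hR).1
  rwa [eq_of_le_of_card_ge hle (by omega)] at hR'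

/-- A conjugate inside `S` of a minimal centrally large subgroup is minimal centrally large. -/
theorem mcl_cj {p : ℕ} [Fact p.Prime] (hS : IsPGroup p S) {R : Subgroup G} (h : MCL S R) {g : G}
    (hg : cj g R ≤ S) : MCL S (cj g R) := by
  refine (cl_of_eq hg ?_).mcl hS h (card_cj g R)
  rw [card_cj]
  have hc : (ctr R).map (MulAut.conj g).toMonoidHom = ctr (cj g R) :=
    ctr_map (MulAut.conj g).injective R
  rw [← hc, card_map_of_injective (MulAut.conj g).injective]
  exact h.cl.measure.ge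

theorem fam_cj {p : ℕ} [Fact p.Prime] (hS : IsPGroup p S) {R : Subgroup G} (h : Fam S p R) {g : G}
    (hg : cj g R ≤ S) : Fam S p (cj g R) := by
  refine ⟨mcl_cj hS h.1 hg, fun R₁ h₁ => (h.2 R₁ h₁).trans (le_of_eq ?_)⟩
  rw [cj, ← omega_ctr_map (MulAut.conj g).injective p R]
  exact (card_map_of_injective (MulAut.conj g).injective).symm

theorem exists_fam (S : Subgroup G) (p : ℕ) : ∃ R, Fam S p R := by
  obtain ⟨R, hR, hmax⟩ := Set.exists_max_image {R : Subgroup G | MCL S R}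
    (fun R => Nat.card ↥(Cfsg.omegaOne p (ctr R))) (Set.toFinite _) (exists_mcl S)
  exact ⟨R, hR, hmax⟩

/-- The family in `S` and the family of subgroups of `↥S`. -/
theorem fam_map {p : ℕ} {Q : Subgroup ↥S} :
    Fam S p (Q.map S.subtype) ↔ Cfsg.IsMinimalCentrallyLarge Q ∧
      Nat.card ↥(Cfsg.omegaOneCenter p Q) = Cfsg.maxOmegaCenterOfMinimalCL p ↥S := by
  have key : ∀ X : Subgroup ↥S, Nat.card ↥(Cfsg.omegaOne p (ctr (X.map S.subtype))) =
      Nat.card ↥(Cfsg.omegaOneCenter p X) := fun X => by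
    rw [← omega_ctr_map S.subtype_injective]
    exact card_map_of_injective S.subtype_injective
  have hb : BddAbove {k : ℕ | ∃ Q : Subgroup ↥S, Cfsg.IsMinimalCentrallyLarge Q ∧
      Nat.card ↥(Cfsg.omegaOneCenter p Q) = k} :=
    (Set.finite_range fun Q : Subgroup ↥S => Nat.card ↥(Cfsg.omegaOneCenter p Q)).bddAbove.mono
      fun k hk => by
        obtain ⟨Q, -, hQ⟩ := hk
        exact ⟨Q, hQ⟩
  unfold Cfsg.maxOmegaCenterOfMinimalCL
  constructor
  · intro h
    refine ⟨mcl_map.1 h.1, le_antisymm (le_csSup hb ⟨Q, mcl_map.1 h.1, rfl⟩)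
      (csSup_le ⟨_, Q, mcl_map.1 h.1, rfl⟩ ?_)⟩
    rintro k ⟨X, hX, rfl⟩
    exact key X ▸ key Q ▸ h.2 _ (mcl_map.2 hX)
  · rintro ⟨h1, h2⟩
    refine ⟨mcl_map.2 h1, fun R₁ h₁ => ?_⟩
    rw [key, h2, ← map_subgroupOf_eq_of_le h₁.1, key]
    exact le_csSup hb ⟨_, h₁.2, rfl⟩

theorem frattiniJoin_map (S : Subgroup G) (p : ℕ) :
    (Cfsg.frattiniOfMinimalCLJoin p ↥S).map S.subtype = sSup (Fr '' {R | Fam S p R}) := by
  unfold Cfsg.frattiniOfMinimalCLJoin
  rw [Subgroup.map_iSup]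
  refine le_antisymm (iSup_le fun Q => ?_) (sSup_le ?_)
  · refine le_sSup ⟨(Q : Subgroup ↥S).map S.subtype, fam_map.2 Q.2, ?_⟩
    exact Fr_map S.subtype_injective _
  · rintro _ ⟨R, hR, rfl⟩
    have e : (R.subgroupOf S).map S.subtype = R := map_subgroupOf_eq_of_le hR.1.1
    refine le_iSup_of_le ⟨R.subgroupOf S, fam_map.1 (e.symm ▸ hR)⟩ ?_
    show Fr R ≤ (Fr (R.subgroupOf S)).map S.subtype
    rw [← Fr_map S.subtype_injective, e]

end CfsgLib.PushUp
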