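import Cfsg.Agent.Lib.PushUp.Center
import Cfsg.Agent.Lib.PushUp.CLBasic
import Cfsg.Agent.Lib.PGroup.FrattiniLe
import Cfsg.Agent.Lib.Coprime.PGroupFrattini

/-!
# Minimal centrally large subgroups in the pushing-up situation with `Z(J(S)) = Z(S)`
-/

set_option autoImplicit false
set_option linter.style.haveILetI false

open Subgroup
open scoped commutatorElement

namespace CfsgLib.PushUp

universe u

variable {G : Type u} [Group G] [Finite G] {p : ℕ} [Fact p.Prime] {S : Subgroup G}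

theorem center_comm (S : Subgroup G) : S ⊓ centralizer (S : Set G) ≤
    centralizer ((S ⊓ centralizer (S : Set G) : Subgroup G) : Set G) :=
  CfsgLib.LS.inf_centralizer_self_comm S

/-- Some abelian subgroup of largest order lies outside `Q`. -/
theorem Sit.exists_offender (sit : Sit p S)
    (hJ : S ≤ centralizer (Cfsg.centerThompsonAOf S : Set G))
    (hn : ¬ (S ⊓ centralizer (S : Set G)).Normal) :
    ∃ A₀, MA S A₀ ∧ ¬ A₀ ≤ Cfsg.pCore p G := by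
  by_contra h
  push Not at h
  have e : Cfsg.centerThompsonAOf S = S ⊓ centralizer (S : Set G) :=
    le_antisymm (le_inf Jz_le_self (le_centralizer_iff.1 hJ)) center_le_Jz
  exact hn (e ▸ Jz_normal sit h)

/-- If `Z(S)` is not normal, neither is `Ω₁(Z(S))`. -/
theorem Sit.omega_not_normal (sit : Sit p S) (hn : ¬ (S ⊓ centralizer (S : Set G)).Normal)
    {A₀ : Subgroup G} (hA₀ : MA S A₀) (hA₀Q : ¬ A₀ ≤ Cfsg.pCore p G) :
    ¬ (Cfsg.omegaOne p (S ⊓ centralizer (S : Set G))).Normal := by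
  intro hΩ
  obtain ⟨Om, hOm⟩ : ∃ X, X = Cfsg.omegaOne p (S ⊓ centralizer (S : Set G)) := ⟨_, rfl⟩
  rw [← hOm] at hΩ
  have hOmZ : Om ≤ S ⊓ centralizer (S : Set G) := hOm ▸ CfsgLib.LS.omegaOne_le_self _
  obtain ⟨a₀, ha₀, ha₀Q⟩ := SetLike.not_le_iff_exists.1 hA₀Q
  haveI := hΩ
  have hcΩ : centralizer (Om : Set G) ⊔ S = ⊤ :=
    sit.sup_eq_top (hA₀.1 ha₀) (le_centralizer_iff.1 (hOmZ.trans inf_le_right) (hA₀.1 ha₀)) ha₀Q
  have hcen : ∀ x ∈ Om, x ∈ center G := fun x hx =>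
    mem_center_of_sup_eq_top hcΩ (le_centralizer_iff.1 le_rfl hx) (mem_inf.1 (hOmZ hx)).2
  have o := sit.off le_rfl hn hA₀ hA₀Q
  obtain ⟨V, hV⟩ : ∃ V, V = normalClosure ((S ⊓ centralizer (S : Set G) : Subgroup G) : Set G) :=
    ⟨_, rfl⟩
  rw [← hV] at o
  haveI := o.normal
  haveI := o.comm
  have hVS : V ≤ S := o.le.trans sit.pCore_le
  -- `S` acts trivially modulo the centre
  have hSV : ∀ s ∈ S, ∀ v ∈ V, s * v * s⁻¹ * v⁻¹ ∈ center G := by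
    intro s hs v hv
    obtain ⟨u, hu⟩ : ∃ u, u = s * v * s⁻¹ * v⁻¹ := ⟨_, rfl⟩
    obtain ⟨huV, huS⟩ := mem_inf.1 (hu ▸ o.quad v hv s hs : u ∈ V ⊓ centralizer (S : Set G))
    rw [← hu]
    refine hcen u (hOm ▸ CfsgLib.LS.mem_omegaOne (mem_inf.2 ⟨hVS huV, huS⟩) ?_)
    obtain ⟨q, -, -, hpQ, -⟩ := sit.exists_q
    have hsu : s * u * s⁻¹ = u := by rw [mem_centralizer_iff.1 huS s hs, mul_inv_cancel_right]
    have hsv : s * v * s⁻¹ = u * v := by rw [hu]; group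
    have hiter : ∀ i : ℕ, s ^ i * v * (s ^ i)⁻¹ = u ^ i * v := by
      intro i
      induction i with
      | zero => simp
      | succ i ih =>
        calc s ^ (i + 1) * v * (s ^ (i + 1))⁻¹ = s * (s ^ i * v * (s ^ i)⁻¹) * s⁻¹ := by
              rw [pow_succ']; group
          _ = s * (u ^ i * v) * s⁻¹ := by rw [ih]
          _ = (s * u * s⁻¹) ^ i * (s * v * s⁻¹) := by rw [conj_pow]; group
          _ = _ := by rw [hsu, hsv, pow_succ, mul_assoc]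
    have h1 : s ^ p * v * (s ^ p)⁻¹ = v := by
      rw [← mem_centralizer_iff.1 (o.cent (hpQ s hs)) v hv, mul_inv_cancel_right]
    exact mul_eq_right.1 ((hiter p).symm.trans h1)
  obtain ⟨H, hH⟩ : ∃ H : Subgroup G, ∀ g : G, g ∈ H ↔ ∀ v ∈ V, g * v * g⁻¹ * v⁻¹ ∈ center G := by
    refine ⟨{ carrier := {g | ∀ v ∈ V, g * v * g⁻¹ * v⁻¹ ∈ center G}
              one_mem' := fun v _ => by simp
              mul_mem' := ?_
              inv_mem' := ?_ }, fun g => Iff.rfl⟩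
    · intro a b ha hb v hv
      have h1 := mul_mem (ha _ (o.normal.conj_mem v hv b)) (hb v hv)
      simpa [mul_assoc] using h1
    · intro a ha v hv
      have h1 := inv_mem (ha _ (o.normal.conj_mem v hv a⁻¹))
      simpa [mul_assoc] using h1
  haveI : H.Normal := ⟨fun x hx g => (hH _).2 fun v hv => by
    have h1 := (hH x).1 hx (g⁻¹ * v * g) (by simpa using o.normal.conj_mem v hv g⁻¹)
    have h2 := (inferInstance : (center G).Normal).conj_mem _ h1 g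
    simpa [mul_assoc] using h2⟩
  have hSH : S ≤ H := fun s hs => (hH s).2 fun v hv => hSV s hs v hv
  have hHtop : H = ⊤ := by
    have := sit.sup_eq_top (N := H) (hA₀.1 ha₀) (hSH (hA₀.1 ha₀)) ha₀Q
    rwa [sup_eq_left.2 hSH] at this
  have hiter : ∀ g : G, ∀ v ∈ V, ∀ i : ℕ,
      g ^ i * v * (g ^ i)⁻¹ = (g * v * g⁻¹ * v⁻¹) ^ i * v := by
    intro g v hv i
    have hc : g * v * g⁻¹ * v⁻¹ ∈ center G := (hH g).1 (hHtop ▸ mem_top g) v hv
    obtain ⟨c, hc'⟩ : ∃ c, c = g * v * g⁻¹ * v⁻¹ := ⟨_, rfl⟩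
    rw [← hc'] at hc ⊢
    have hgc : g * c * g⁻¹ = c := by rw [mem_center_iff.1 hc g, mul_inv_cancel_right]
    have hgv : g * v * g⁻¹ = c * v := by rw [hc']; group
    induction i with
    | zero => simp
    | succ i ih =>
      calc g ^ (i + 1) * v * (g ^ (i + 1))⁻¹ = g * (g ^ i * v * (g ^ i)⁻¹) * g⁻¹ := by
            rw [pow_succ']; group
        _ = g * (c ^ i * v) * g⁻¹ := by rw [ih]
        _ = (g * c * g⁻¹) ^ i * (g * v * g⁻¹) := by rw [conj_pow]; group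
        _ = _ := by rw [hgc, hgv, pow_succ, mul_assoc]
  obtain ⟨m, hm⟩ := IsPGroup.iff_card.1 (sit.isPGroup.to_le hVS)
  have hker : ∀ g : G, g ^ p ^ m ∈ centralizer (V : Set G) := fun g => by
    refine mem_centralizer_iff.2 fun v hv => ?_
    have h1 := hiter g v hv (p ^ m)
    have h2 : (g * v * g⁻¹ * v⁻¹) ^ p ^ m = 1 := by
      have hc : g * v * g⁻¹ * v⁻¹ ∈ V := mul_mem (o.normal.conj_mem v hv g) (inv_mem hv)
      have := pow_card_eq_one' (x := (⟨_, hc⟩ : ↥V))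
      rw [hm] at this
      simpa using congrArg Subtype.val this
    rw [h2, one_mul, mul_inv_eq_iff_eq_mul] at h1
    exact h1.symm
  have hP : IsPGroup p (G ⧸ centralizer (V : Set G)) := fun x => by
    obtain ⟨g, rfl⟩ := QuotientGroup.mk_surjective x
    exact ⟨m, by rw [← QuotientGroup.mk_pow]; exact (QuotientGroup.eq_one_iff _).2 (hker g)⟩
  obtain ⟨k, hk⟩ := IsPGroup.iff_card.1 hP
  obtain ⟨P, hPS⟩ := sit.sylow
  have hd1 : (centralizer (V : Set G) ⊔ S).index ∣ p ^ k := by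
    rw [← hk, ← index_eq_card]
    exact index_dvd_of_le le_sup_left
  have hd2 : (centralizer (V : Set G) ⊔ S).index ∣ S.index := index_dvd_of_le le_sup_right
  obtain ⟨l, -, hl⟩ := (Nat.dvd_prime_pow Fact.out).1 hd1
  refine (hV ▸ (sit.closure_facts le_rfl).2.2.2 hn : centralizer (V : Set G) ⊔ S ≠ ⊤)
    (index_eq_one.1 ?_)
  rw [hl]
  rcases Nat.eq_zero_or_pos l with rfl | hl0
  · rw [pow_zero]
  · exfalso
    refine P.not_dvd_index ?_
    rw [hPS]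
    exact ((dvd_pow_self p hl0.ne').trans hl.symm.dvd).trans hd2

/-- The configuration used below. -/
theorem Sit.exists_elementary_off (sit : Sit p S)
    (hJ : S ≤ centralizer (Cfsg.centerThompsonAOf S : Set G))
    (hn : ¬ (S ⊓ centralizer (S : Set G)).Normal) :
    ∃ V : Subgroup G, Off p S V ∧ ∀ v ∈ V, v ^ p = 1 := by
  obtain ⟨A₀, hA₀, hA₀Q⟩ := sit.exists_offender hJ hn
  have hle : Cfsg.omegaOne p (S ⊓ centralizer (S : Set G)) ≤ S ⊓ centralizer (S : Set G) :=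
    CfsgLib.LS.omegaOne_le_self _
  have o := sit.off hle (sit.omega_not_normal hn hA₀ hA₀Q) hA₀ hA₀Q
  refine ⟨_, o, fun v hv => ?_⟩
  haveI := o.comm
  obtain ⟨V, hV⟩ : ∃ V, V = normalClosure
    (Cfsg.omegaOne p (S ⊓ centralizer (S : Set G)) : Set G) := ⟨_, rfl⟩
  rw [← hV] at o hv
  have hle' : V ≤ Cfsg.omegaOne p V := by
    refine hV.le.trans ((closure_le _).2 fun x hx => ?_)
    obtain ⟨w, hw, hwx⟩ := Group.mem_conjugatesOfSet_iff.1 hx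
    obtain ⟨g, rfl⟩ := isConj_iff.1 hwx
    refine CfsgLib.LS.mem_omegaOne (hV ▸ (normalClosure_normal.conj_mem w (subset_normalClosure hw) g)) ?_
    rw [conj_pow, (CfsgLib.LS.omegaOne_ea (p := p) (center_comm S)).2 w hw, mul_one, mul_inv_cancel]
  haveI := o.comm
  exact (CfsgLib.LS.omegaOne_ea (le_centralizer V)).2 v (hle' hv)

variable {V R : Subgroup G}

theorem card_sup_eq_mul {X E : Subgroup G} (h : X ≤ centralizer (V : Set G)) (hE : X ⊓ V = E) :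
    Nat.card ↥(X ⊔ V) = Nat.card X * E.relIndex V := by
  have h1 := card_sup_of_le_centralizer h
  have hEV : E ≤ V := hE ▸ inf_le_right
  rw [hE, ← relIndex_bot_left V, ← relIndex_mul_relIndex ⊥ E V bot_le hEV, relIndex_bot_left] at h1
  exact Nat.eq_of_mul_eq_mul_right (Nat.card_pos (α := E)) (h1.trans (by ring))

theorem card_eq_inf_mul (X Q : Subgroup G) :
    Nat.card X = Nat.card ↥(X ⊓ Q) * Q.relIndex X := by
  rw [← relIndex_bot_left X, ← relIndex_mul_relIndex ⊥ (X ⊓ Q) X bot_le inf_le_left,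
    relIndex_bot_left, inf_relIndex_left]

theorem Sit.sup_eq_of_relIndex (sit : Sit p S) {X : Subgroup G} (hX : X ≤ S)
    (h : (Cfsg.pCore p G).relIndex X = (Cfsg.pCore p G).relIndex S) :
    X ⊔ Cfsg.pCore p G = S := by
  haveI := pCore_normal p G
  refine le_antisymm (sup_le hX sit.pCore_le) (relIndex_eq_one.1 ?_)
  have h4 := relIndex_mul_relIndex (Cfsg.pCore p G) (X ⊔ Cfsg.pCore p G) S le_sup_right
    (sup_le hX sit.pCore_le)
  rw [relIndex_sup_right] at h4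
  refine Nat.eq_of_mul_eq_mul_left (CfsgLib.ModBound.relIndex_pos (Cfsg.pCore p G) X) ?_
  rw [h4, mul_one, h]

/-- A minimal centrally large subgroup outside `Q` can be pushed into `Q`. -/
theorem Off.mcl_step (sit : Sit p S) (o : Off p S V) (hR : MCL S R)
    (hRQ : ¬ R ≤ Cfsg.pCore p G) :
    MCL S (R ⊓ Cfsg.pCore p G ⊔ V) ∧ ctr R ⊔ Cfsg.pCore p G = S ∧
      ctr R ⊓ V = V ⊓ centralizer (S : Set G) ∧
      ctr R ⊓ Cfsg.pCore p G ⊔ V ≤ ctr (R ⊓ Cfsg.pCore p G ⊔ V) := by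
  haveI := pCore_normal p G
  haveI := o.comm
  obtain ⟨Q, hQ⟩ : ∃ Q, Q = Cfsg.pCore p G := ⟨_, rfl⟩
  have hQS : Q ≤ S := hQ ▸ sit.pCore_le
  have hVQ : V ≤ Q := hQ ▸ o.le
  have hVS : V ≤ S := hVQ.trans hQS
  have hQV : Q ≤ centralizer (V : Set G) := hQ ▸ o.cent
  have hCctr : V ⊓ centralizer (S : Set G) ≤ ctr R :=
    (inf_le_inf_right _ hVS).trans hR.cl.center_le
  have hfix : ∀ X : Subgroup G, ∀ a ∈ R, a ∉ Q → X ≤ centralizer ({a} : Set G) →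
      V ⊓ X ≤ V ⊓ centralizer (S : Set G) := fun X a ha haQ hX =>
    (inf_le_inf_left V hX).trans (o.fix a (hR.1 ha) (hQ ▸ haQ)).le
  obtain ⟨a, haR, haQ⟩ := SetLike.not_le_iff_exists.1 (hQ ▸ hRQ : ¬ R ≤ Q)
  have hCV : ctr R ⊓ V = V ⊓ centralizer (S : Set G) := by
    refine le_antisymm ?_ (le_inf hCctr inf_le_left)
    rw [inf_comm]
    exact hfix _ a haR haQ fun z hz => mem_centralizer_singleton_iff.2 (ctr_comm hz haR).symm
  have hX₀ : ctr R ⊓ Q ⊓ V = V ⊓ centralizer (S : Set G) := by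
    rw [inf_assoc, inf_eq_right.2 hVQ, hCV]
  have hR₀V : R ⊓ Q ⊓ V = R ⊓ V := by rw [inf_assoc, inf_eq_right.2 hVQ]
  have hR'Q : R ⊓ Q ⊔ V ≤ Q := sup_le inf_le_right hVQ
  have hcR' : Nat.card ↥(R ⊓ Q ⊔ V) = Nat.card ↥(R ⊓ Q) * (R ⊓ V).relIndex V :=
    card_sup_eq_mul (inf_le_right.trans hQV) hR₀V
  have hcZ' : Nat.card ↥(ctr R ⊓ Q ⊔ V) = Nat.card ↥(ctr R ⊓ Q) * Q.relIndex S := by
    rw [card_sup_eq_mul (inf_le_right.trans hQV) hX₀, o.index, hQ]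
  have hZ'le : ctr R ⊓ Q ⊔ V ≤ ctr (R ⊓ Q ⊔ V) := by
    refine le_inf (sup_le_sup_right (inf_le_inf_right Q (ctr_le R)) V) ?_
    rw [CfsgLib.CDLat.centralizer_sup]
    refine le_inf (sup_le ?_ ?_) (sup_le (inf_le_right.trans hQV) (le_centralizer V))
    · exact inf_le_left.trans (inf_le_right.trans (Subgroup.centralizer_le inf_le_left))
    · exact (le_centralizer_iff.1 hQV).trans (Subgroup.centralizer_le inf_le_right)
  have hcR := card_eq_inf_mul R Q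
  have hcZ : Nat.card ↥(ctr R) = Nat.card ↥(ctr R ⊓ Q) * Q.relIndex (ctr R) :=
    card_eq_inf_mul (ctr R) Q
  have hi : Q.relIndex R ≤ Q.relIndex S :=
    relIndex_le_of_le_right hR.1 (CfsgLib.ModBound.relIndex_pos _ _).ne'
  have hj : Q.relIndex (ctr R) ≤ Q.relIndex S :=
    relIndex_le_of_le_right ((ctr_le R).trans hR.1) (CfsgLib.ModBound.relIndex_pos _ _).ne'
  obtain ⟨i, hidef⟩ : ∃ i, i = Q.relIndex R := ⟨_, rfl⟩
  obtain ⟨j, hjdef⟩ : ∃ j, j = Q.relIndex (ctr R) := ⟨_, rfl⟩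
  obtain ⟨q, hqdef⟩ : ∃ q, q = Q.relIndex S := ⟨_, rfl⟩
  obtain ⟨x, hxdef⟩ : ∃ x, x = (R ⊓ V).relIndex V := ⟨_, rfl⟩
  rw [← hidef] at hi hcR
  rw [← hjdef] at hj hcZ
  rw [← hqdef] at hi hj hcZ'
  rw [← hxdef] at hcR'
  have hxpos : 0 < x := hxdef ▸ CfsgLib.ModBound.relIndex_pos _ _
  have hR'S : R ⊓ Q ⊔ V ≤ S := hR'Q.trans hQS
  have hle := le_max (S := S) hR'S
  rw [← hR.cl.measure] at hle
  have hlow : Nat.card ↥(ctr R ⊓ Q) * q ≤ Nat.card ↥(ctr (R ⊓ Q ⊔ V)) :=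
    hcZ' ▸ card_le_of_le hZ'le
  have hxq : x * q ≤ i * j := by
    refine Nat.le_of_mul_le_mul_left (?_ : Nat.card ↥(R ⊓ Q) * Nat.card ↥(ctr R ⊓ Q) * (x * q) ≤
      Nat.card ↥(R ⊓ Q) * Nat.card ↥(ctr R ⊓ Q) * (i * j))
      (Nat.mul_pos (Nat.card_pos (α := ↥(R ⊓ Q))) (Nat.card_pos (α := ↥(ctr R ⊓ Q))))
    calc Nat.card ↥(R ⊓ Q) * Nat.card ↥(ctr R ⊓ Q) * (x * q)
        = (Nat.card ↥(R ⊓ Q) * x) * (Nat.card ↥(ctr R ⊓ Q) * q) := by ring
      _ ≤ (Nat.card ↥(R ⊓ Q) * x) * Nat.card ↥(ctr (R ⊓ Q ⊔ V)) := Nat.mul_le_mul_left _ hlow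
      _ ≤ Nat.card R * Nat.card ↥(ctr R) := hcR' ▸ hle
      _ = _ := by rw [hcR, hcZ]; ring
  by_cases hZQ : ctr R ≤ Q
  · exfalso
    have hj1 : j = 1 := hjdef ▸ relIndex_eq_one.2 hZQ
    rw [hj1, mul_one] at hxq
    have hx1 : x = 1 := by
      by_contra hne
      have := Nat.mul_le_mul_right q (show 2 ≤ x by omega)
      have := hqdef ▸ hQ ▸ o.one_lt
      omega
    have hVR : V ≤ R := (relIndex_eq_one.1 (hxdef ▸ hx1)).trans inf_le_left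
    have hR₀ : R ⊓ Q ⊔ V = R ⊓ Q := sup_eq_left.2 (le_inf hVR hVQ)
    rw [hR₀] at hle hlow
    rw [hx1, one_mul] at hxq
    have hcl : CL S (R ⊓ Q) := by
      refine cl_of_eq (inf_le_left.trans hR.1) ?_
      rw [← hR.cl.measure, hcR, hcZ, hj1, mul_one, mul_assoc]
      refine Nat.mul_le_mul_left _ (le_trans ?_ hlow)
      rw [mul_comm]
      exact Nat.mul_le_mul_left _ hi
    exact hRQ (hQ ▸ (hR.eq_of_le hcl inf_le_left).ge.trans inf_le_right)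
  obtain ⟨b, hb, hbQ⟩ := SetLike.not_le_iff_exists.1 hZQ
  have hRV : R ⊓ V = V ⊓ centralizer (S : Set G) := by
    refine le_antisymm ?_ (le_inf (hCctr.trans (ctr_le R)) inf_le_left)
    rw [inf_comm]
    exact hfix _ b (ctr_le R hb) hbQ fun r hr => mem_centralizer_singleton_iff.2 (ctr_comm hb hr)
  have hxeq : x = q := by rw [hxdef, hRV, o.index, hqdef, hQ]
  rw [hxeq] at hxq hcR'
  have hq0 : 0 < q := hqdef ▸ CfsgLib.ModBound.relIndex_pos _ _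
  have hij : i = q ∧ j = q := by
    constructor
    · by_contra hne
      have := Nat.mul_lt_mul_of_lt_of_le (show i < q by omega) hj hq0
      omega
    · by_contra hne
      have := Nat.mul_lt_mul_of_le_of_lt hi (show j < q by omega) hq0
      omega
  obtain ⟨hiq, hjq⟩ := hij
  rw [hiq] at hcR
  rw [hjq] at hcZ
  have hcl : CL S (R ⊓ Q ⊔ V) := by
    refine cl_of_eq hR'S ?_
    rw [← hR.cl.measure, hcR', ← hcR, hcZ]
    exact Nat.mul_le_mul_left _ hlow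
  rw [hQ] at hcl hcR' hcR hZ'le hjdef hqdef
  refine ⟨hcl.mcl sit.isPGroup hR (hcR'.trans hcR.symm), ?_, hCV, hZ'le⟩
  exact sit.sup_eq_of_relIndex ((ctr_le R).trans hR.1) (by rw [← hjdef, hjq, hqdef])

/-- The step preserves the family. -/
theorem Off.fam_step (sit : Sit p S) (o : Off p S V) (hV : ∀ v ∈ V, v ^ p = 1) (hR : Fam S p R)
    (hRQ : ¬ R ≤ Cfsg.pCore p G) :
    Fam S p (R ⊓ Cfsg.pCore p G ⊔ V) ∧ Fr R ≤ Fr (R ⊓ Cfsg.pCore p G ⊔ V) := by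
  haveI := pCore_normal p G
  obtain ⟨hR', -, hCV, hZ'le⟩ := o.mcl_step sit hR.1 hRQ
  obtain ⟨Q, hQ⟩ : ∃ Q, Q = Cfsg.pCore p G := ⟨_, rfl⟩
  rw [← hQ] at hR' hZ'le ⊢
  have hVQ : V ≤ Q := hQ ▸ o.le
  obtain ⟨W, hW⟩ : ∃ W, W = Cfsg.omegaOne p (ctr R) := ⟨_, rfl⟩
  have hWR : W ≤ ctr R := hW ▸ CfsgLib.LS.omegaOne_le_self _
  have hWp : ∀ x ∈ W, x ^ p = 1 := hW ▸ (CfsgLib.LS.omegaOne_center_ea R).2
  have hWC : W ⊓ Q ⊓ V = V ⊓ centralizer (S : Set G) := by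
    refine le_antisymm ?_ ?_
    · rw [← hCV]
      exact inf_le_inf_right V (inf_le_left.trans hWR)
    · intro c hc
      have hcR : c ∈ ctr R ⊓ V := hCV.ge hc
      refine mem_inf.2 ⟨mem_inf.2 ⟨hW ▸ CfsgLib.LS.mem_omegaOne (mem_inf.1 hcR).1
        (hV c (mem_inf.1 hc).1), hVQ (mem_inf.1 hc).1⟩, (mem_inf.1 hc).1⟩
  have hcW' := card_sup_eq_mul (X := W ⊓ Q) (inf_le_right.trans (hQ ▸ o.cent)) hWC
  rw [o.index, ← hQ] at hcW'
  have hW'le : W ⊓ Q ⊔ V ≤ Cfsg.omegaOne p (ctr (R ⊓ Q ⊔ V)) := by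
    refine sup_le (fun x hx => ?_) fun x hx => ?_
    · exact CfsgLib.LS.mem_omegaOne (hZ'le (mem_sup_left (inf_le_inf_right Q hWR hx)))
        (hWp x (mem_inf.1 hx).1)
    · exact CfsgLib.LS.mem_omegaOne (hZ'le (mem_sup_right hx)) (hV x hx)
  have h1 := (card_le_of_le hW'le).trans (hR.2 _ hR')
  rw [← hW, hcW', card_eq_inf_mul W Q] at h1
  have hidx : Q.relIndex W = Q.relIndex S :=
    le_antisymm (relIndex_le_of_le_right (hWR.trans ((ctr_le R).trans hR.1.1))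
      (CfsgLib.ModBound.relIndex_pos _ _).ne') (Nat.le_of_mul_le_mul_left h1 Nat.card_pos)
  have hWQ : W ⊔ Q = S := by
    rw [hQ] at hidx ⊢
    exact sit.sup_eq_of_relIndex (hWR.trans ((ctr_le R).trans hR.1.1)) hidx
  refine ⟨⟨hR', fun R₁ h₁ => (hR.2 R₁ h₁).trans ?_⟩, ?_⟩
  · rw [← hW, card_eq_inf_mul W Q, hidx, ← hcW']
    exact card_le_of_le hW'le
  haveI : Q.Normal := hQ ▸ pCore_normal p G
  have hsplit : ∀ r ∈ R, ∃ z ∈ W, ∃ y ∈ R ⊓ Q ⊔ V, r = z * y := by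
    intro r hr
    have hrS : r ∈ (W ⊔ Q : Subgroup G) := hWQ.ge (hR.1.1 hr)
    rw [← SetLike.mem_coe, Subgroup.mul_normal] at hrS
    obtain ⟨z, hz, y, hy, rfl⟩ := hrS
    exact ⟨z, hz, y, mem_sup_left (mem_inf.2
      ⟨(mul_mem_cancel_left (ctr_le R (hWR hz))).1 hr, hy⟩), rfl⟩
  have hp' : IsPGroup p ↥(R ⊓ Q ⊔ V) := sit.isPGroup.to_le hR'.1
  have hpow : ∀ y ∈ R ⊓ Q ⊔ V, y ^ p ∈ Fr (R ⊓ Q ⊔ V) := fun y hy =>
    ⟨_, CfsgLib.Coprime.pow_mem_frattini hp' ⟨y, hy⟩, rfl⟩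
  have hcomm : ∀ y₁ ∈ R ⊓ Q ⊔ V, ∀ y₂ ∈ R ⊓ Q ⊔ V, ⁅y₁, y₂⁆ ∈ Fr (R ⊓ Q ⊔ V) :=
    fun y₁ h₁ y₂ h₂ => ⟨⁅(⟨y₁, h₁⟩ : ↥(R ⊓ Q ⊔ V)), ⟨y₂, h₂⟩⁆,
      CfsgLib.Coprime.commutator_le_frattini hp'
        (commutator_mem_commutator (mem_top _) (mem_top _)), rfl⟩
  have key : frattini ↥R ≤ (Fr (R ⊓ Q ⊔ V)).subgroupOf R := by
    refine CfsgLib.FrattiniLe.frattini_le_of_pow_of_commutator (p := p) (fun r => ?_) ?_
    · obtain ⟨z, hz, y, hy, hzy⟩ := hsplit r r.2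
      rw [mem_subgroupOf, SubgroupClass.coe_pow, hzy]
      have hyR : y ∈ R := (mul_mem_cancel_left (ctr_le R (hWR hz))).1 (hzy ▸ r.2)
      rw [Commute.mul_pow (ctr_comm (hWR hz) hyR).symm, hWp z hz, one_mul]
      exact hpow y hy
    · rw [_root_.commutator_def, commutator_le]
      intro r₁ _ r₂ _
      obtain ⟨z₁, hz₁, y₁, hy₁, h₁⟩ := hsplit r₁ r₁.2
      obtain ⟨z₂, hz₂, y₂, hy₂, h₂⟩ := hsplit r₂ r₂.2
      show ⁅(r₁ : G), (r₂ : G)⁆ ∈ Fr (R ⊓ Q ⊔ V)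
      have hy₁R : y₁ ∈ R := (mul_mem_cancel_left (ctr_le R (hWR hz₁))).1 (h₁ ▸ r₁.2)
      have hy₂R : y₂ ∈ R := (mul_mem_cancel_left (ctr_le R (hWR hz₂))).1 (h₂ ▸ r₂.2)
      have e : ⁅(r₁ : G), (r₂ : G)⁆ = ⁅y₁, y₂⁆ := by
        have c₁ : y₁ * z₂ = z₂ * y₁ := ctr_comm (hWR hz₂) hy₁R
        have c₂ : y₂ * z₁ = z₁ * y₂ := ctr_comm (hWR hz₁) hy₂R
        have c₃ : z₁ * z₂ = z₂ * z₁ := ctr_comm (hWR hz₂) (ctr_le R (hWR hz₁))
        have h12 : (z₁ * y₁) * (z₂ * y₂) = (z₁ * z₂) * (y₁ * y₂) := by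
          calc _ = z₁ * (y₁ * z₂) * y₂ := by group
            _ = z₁ * (z₂ * y₁) * y₂ := by rw [c₁]
            _ = _ := by group
        have h21 : (z₂ * y₂) * (z₁ * y₁) = (z₁ * z₂) * (y₂ * y₁) := by
          calc _ = z₂ * (y₂ * z₁) * y₁ := by group
            _ = z₂ * (z₁ * y₂) * y₁ := by rw [c₂]
            _ = (z₂ * z₁) * (y₂ * y₁) := by group
            _ = _ := by rw [c₃]
        have hzc : ∀ w ∈ R, (z₁ * z₂) * w = w * (z₁ * z₂) := fun w hw =>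
          (ctr_comm (mul_mem (hWR hz₁) (hWR hz₂)) hw).symm
        rw [h₁, h₂]
        simp only [commutatorElement_def]
        calc (z₁ * y₁) * (z₂ * y₂) * (z₁ * y₁)⁻¹ * (z₂ * y₂)⁻¹
            = ((z₁ * y₁) * (z₂ * y₂)) * ((z₂ * y₂) * (z₁ * y₁))⁻¹ := by group
          _ = ((z₁ * z₂) * (y₁ * y₂)) * ((z₁ * z₂) * (y₂ * y₁))⁻¹ := by rw [h12, h21]
          _ = ((y₁ * y₂) * (z₁ * z₂)) * ((y₂ * y₁) * (z₁ * z₂))⁻¹ := by
            rw [hzc _ (mul_mem hy₁R hy₂R), hzc _ (mul_mem hy₂R hy₁R)]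
          _ = _ := by group
      rw [e]
      exact hcomm y₁ hy₁ y₂ hy₂
  exact (map_mono key).trans ((subgroupOf_map_subtype _ _).le.trans inf_le_left)

theorem normal_sSup_of_cj {𝒮 : Set (Subgroup G)} (h : ∀ g : G, ∀ X ∈ 𝒮, cj g X ≤ sSup 𝒮) :
    (sSup 𝒮).Normal := by
  refine ⟨fun x hx g => ?_⟩
  have : (sSup 𝒮).map (MulAut.conj g).toMonoidHom ≤ sSup 𝒮 :=
    map_le_iff_le_comap.2 (sSup_le fun X hX => map_le_iff_le_comap.1 (h g X hX))
  exact this (mem_map_of_mem _ hx)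

/-- `Z(S)` or `S_Φ` is normal. -/
theorem Sit.frattiniJoin_case (sit : Sit p S)
    (hJ : S ≤ centralizer (Cfsg.centerThompsonAOf S : Set G)) :
    (S ⊓ centralizer (S : Set G)).Normal ∨
      ((Cfsg.frattiniOfMinimalCLJoin p ↥S).map S.subtype).Normal := by
  refine or_iff_not_imp_left.2 fun hn => ?_
  obtain ⟨V, o, hV⟩ := sit.exists_elementary_off hJ hn
  rw [frattiniJoin_map]
  haveI := pCore_normal p G
  refine normal_sSup_of_cj ?_
  rintro g _ ⟨R, hR, rfl⟩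
  obtain ⟨R', hR', hR'Q, hle⟩ : ∃ R', Fam S p R' ∧ R' ≤ Cfsg.pCore p G ∧ Fr R ≤ Fr R' := by
    by_cases hRQ : R ≤ Cfsg.pCore p G
    · exact ⟨R, hR, hRQ, le_rfl⟩
    · obtain ⟨h1, h2⟩ := o.fam_step sit hV hR hRQ
      exact ⟨_, h1, sup_le inf_le_right o.le, h2⟩
  have hgS : cj g R' ≤ S := ((cj_mono hR'Q).trans (cj_normal g _).le).trans sit.pCore_le
  refine (cj_mono hle).trans (le_sSup ⟨cj g R', fam_cj sit.isPGroup hR' hgS, ?_⟩)
  exact Fr_map (MulAut.conj g).injective R'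

/-- `Z(S) ∩ Q'` or the join of the minimal centrally large subgroups is normal. -/
theorem Sit.derived_case (sit : Sit p S)
    (hJ : S ≤ centralizer (Cfsg.centerThompsonAOf S : Set G)) {Q₁ : Subgroup G} (hQ₁ : MCL S Q₁) :
    (S ⊓ centralizer (S : Set G) ⊓ ⁅Q₁, Q₁⁆).Normal ∨ (sSup {R | MCL S R}).Normal := by
  haveI := pCore_normal p G
  by_cases hAll : ∀ R, MCL S R → R ≤ Cfsg.pCore p G
  · refine Or.inr (normal_sSup_of_cj fun g X hX => le_sSup ?_)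
    exact mcl_cj sit.isPGroup hX
      (((cj_mono (hAll X hX)).trans (cj_normal g _).le).trans sit.pCore_le)
  left
  push Not at hAll
  obtain ⟨R, hR, hRQ⟩ := hAll
  have hTS : S ⊓ centralizer (S : Set G) ⊓ ⁅Q₁, Q₁⁆ ≤ centralizer (S : Set G) :=
    inf_le_left.trans inf_le_right
  by_cases hn : (S ⊓ centralizer (S : Set G)).Normal
  · haveI := hn
    obtain ⟨a, ha, haQ⟩ := SetLike.not_le_iff_exists.1 hRQ
    exact normal_of_centralized
      (sit.sup_eq_top (N := centralizer ((S ⊓ centralizer (S : Set G) : Subgroup G) : Set G))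
        (hR.1 ha) (le_centralizer_iff.1 inf_le_right (hR.1 ha)) haQ)
      (inf_le_left.trans (le_centralizer_iff.1 le_rfl)) hTS
  obtain ⟨V, o, -⟩ := sit.exists_elementary_off hJ hn
  obtain ⟨hR', hsup, -, -⟩ := o.mcl_step sit hR hRQ
  obtain ⟨R', hR'def⟩ : ∃ R', R' = R ⊓ Cfsg.pCore p G ⊔ V := ⟨_, rfl⟩
  rw [← hR'def] at hR'
  have hR'Q : R' ≤ Cfsg.pCore p G := hR'def ▸ sup_le inf_le_right o.le
  obtain ⟨D, hD⟩ : ∃ D, D = ⁅Q₁, Q₁⁆ := ⟨_, rfl⟩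
  have hDR' : D = ⁅R', R'⁆ := hD.trans (MCL.uniform sit.isPGroup hQ₁ hR').2
  haveI hDn : D.Normal := by
    refine ⟨fun x hx g => ?_⟩
    have hgS : cj g R' ≤ S := ((cj_mono hR'Q).trans (cj_normal g _).le).trans sit.pCore_le
    have h := mem_map_of_mem (MulAut.conj g).toMonoidHom (hDR' ▸ hx : x ∈ ⁅R', R'⁆)
    rw [map_commutator] at h
    rw [hD, (MCL.uniform sit.isPGroup hQ₁ (mcl_cj sit.isPGroup hR' hgS)).2]
    exact h
  obtain ⟨z, hz, hzQ⟩ := SetLike.not_le_iff_exists.1 fun h : ctr R ≤ Cfsg.pCore p G => by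
    rw [sup_eq_right.2 h] at hsup
    exact hRQ (hsup ▸ hR.1)
  have hDR : D ≤ R := hD.le.trans ((MCL.uniform sit.isPGroup hQ₁ hR).2.le.trans
    (commutator_le.2 fun x hx y hy => mul_mem (mul_mem (mul_mem hx hy) (inv_mem hx)) (inv_mem hy)))
  have hzD : z ∈ centralizer (D : Set G) :=
    Subgroup.centralizer_le hDR (mem_inf.1 hz).2
  exact normal_of_centralized (sit.sup_eq_top (hR.1 (ctr_le R hz)) hzD hzQ)
    (le_centralizer_iff.1 (Subgroup.centralizer_le (inf_le_right.trans hD.ge))) hTS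

end CfsgLib.PushUp
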