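import Cfsg.Agent.Lib.PushUp.Offender

/-!
# The centre of the Thompson subgroup in the pushing-up situation
-/

set_option autoImplicit false
set_option linter.style.haveILetI false

open Subgroup
open scoped commutatorElement

namespace CfsgLib.PushUp

universe u

variable {G : Type u} [Group G] [Finite G] {p : ℕ} [Fact p.Prime] {S : Subgroup G}

/-- Two conjugates of `S` generate `G`. -/
theorem Sit.exists_conj (sit : Sit p S) (hS : ¬ S ≤ Cfsg.pCore p G) :
    ∃ g : G, S ⊔ cj g S = ⊤ := by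
  by_contra hno
  push Not at hno
  obtain ⟨M, ⟨hM, hSM⟩, huniq⟩ := sit.uniq
  have hle : normalClosure (S : Set G) ≤ M := by
    rw [normalClosure, closure_le]
    intro x hx
    obtain ⟨s, hs, hsx⟩ := Group.mem_conjugatesOfSet_iff.1 hx
    obtain ⟨g, rfl⟩ := isConj_iff.1 hsx
    obtain ⟨M', hM', h'⟩ := (eq_top_or_exists_le_coatom (S ⊔ cj g S)).resolve_left (hno g)
    rw [← huniq M' ⟨hM', le_sup_left.trans h'⟩]
    exact h' (mem_sup_right (conj_mem_cj hs))
  haveI : (normalClosure (S : Set G)).Normal := normalClosure_normal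
  rcases sit.sup_or (normalClosure (S : Set G)) with h | h
  · exact hS (le_trans (le_inf le_rfl le_normalClosure) h)
  · exact hM.1 (top_le_iff.1 (h ▸ sup_le hle hSM))

variable {V : Subgroup G}

/-- `V` is the product of the fixed points of two generating conjugates. -/
theorem Off.eq_sup (o : Off p S V) {Z : Subgroup G} (hV : V = normalClosure (Z : Set G))
    (hZ : Z ≤ centralizer (S : Set G)) {g : G} (hg : S ⊔ cj g S = ⊤) :
    V ⊓ centralizer (S : Set G) ⊔ cj g (V ⊓ centralizer (S : Set G)) = V := by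
  haveI := o.normal
  obtain ⟨X, hX⟩ : ∃ X, X = V ⊓ centralizer (S : Set G) ⊔ cj g (V ⊓ centralizer (S : Set G)) := ⟨_, rfl⟩
  rw [← hX]
  have hXV : X ≤ V := hX ▸ sup_le inf_le_left ((cj_mono inf_le_left).trans (cj_normal g V).le)
  refine le_antisymm hXV ?_
  haveI : X.Normal := by
    rw [← normalizer_eq_top_iff, ← top_le_iff, ← hg]
    have key : ∀ (T : Subgroup G), (∀ t ∈ T, ∀ v ∈ V, t * v * t⁻¹ * v⁻¹ ∈ X) →
        T ≤ normalizer (X : Set G) := fun T hT t ht => by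
      refine mem_normalizer_of_forall (fun x hx => ?_) fun x hx => ?_
      · have := mul_mem (hT t ht x (hXV hx)) hx
        simpa [mul_assoc] using this
      · have := mul_mem (hT t⁻¹ (inv_mem ht) x (hXV hx)) hx
        simpa [mul_assoc] using this
    refine sup_le (key S fun t ht v hv => hX ▸ mem_sup_left (o.quad v hv t ht))
      (key _ fun t ht v hv => hX ▸ mem_sup_right ?_)
    obtain ⟨s, hs, rfl⟩ := ht
    have hv' : g⁻¹ * v * g ∈ V := by
      have := o.normal.conj_mem v hv g⁻¹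
      simpa [mul_assoc] using this
    have := conj_mem_cj (g := g) (o.quad (g⁻¹ * v * g) hv' s hs)
    simpa [MulAut.conj_apply, mul_assoc] using this
  refine hV ▸ normalClosure_le_normal fun z hz => hX ▸ mem_sup_left (mem_inf.2 ⟨?_, hZ hz⟩)
  exact hV ▸ subset_normalClosure hz

/-- The supplement and the decomposition of `Z(J(S))`. -/
theorem Off.center_decomp (sit : Sit p S) (o : Off p S V) {Z : Subgroup G}
    (hV : V = normalClosure (Z : Set G)) (hZ : Z ≤ centralizer (S : Set G))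
    {A₀ : Subgroup G} (hA₀ : MA S A₀) (hA₀Q : ¬ A₀ ≤ Cfsg.pCore p G) :
    ∃ N Z0 : Subgroup G, N.Normal ∧ Cfsg.thompsonSubgroupAOf S ≤ N ∧
      N ⊔ S = ⊤ ∧ N ⊔ Cfsg.pCore p G = ⊤ ∧ Z0 ≤ Cfsg.centerThompsonAOf S ∧
      Z0 ≤ centralizer (N : Set G) ∧ Cfsg.pCore p G ≤ normalizer (Z0 : Set G) ∧
      ∀ z ∈ Cfsg.centerThompsonAOf S, ∃ c ∈ V ⊓ centralizer (S : Set G), z * c⁻¹ ∈ Z0 := by
  haveI := o.normal
  haveI := pCore_normal p G
  have hQS := sit.pCore_le
  obtain ⟨J, hJ⟩ : ∃ J, J = Cfsg.thompsonSubgroupAOf S := ⟨_, rfl⟩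
  obtain ⟨W, hW⟩ : ∃ W, W = Cfsg.centerThompsonAOf S := ⟨_, rfl⟩
  rw [← hJ, ← hW]
  obtain ⟨g, hg⟩ := sit.exists_conj fun h => hA₀Q (hA₀.1.trans h)
  have hJQ : J ⊔ Cfsg.pCore p G = S := le_antisymm (sup_le (hJ ▸ J_le_self) hQS)
    ((o.sup A₀ hA₀ hA₀Q).ge.trans (sup_le_sup_right (hJ ▸ le_J hA₀) _))
  have hJgQ : cj g J ⊔ Cfsg.pCore p G = cj g S := by
    rw [← cj_normal g (Cfsg.pCore p G), cj, cj, ← Subgroup.map_sup, hJQ]; rfl
  have hQN : ∀ {X : Subgroup G}, Cfsg.pCore p G ≤ normalizer (X : Set G) →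
      Cfsg.pCore p G ≤ normalizer (cj g X : Set G) := fun {X} hX => by
    rw [← cj_normal g (Cfsg.pCore p G)]
    rintro _ ⟨x, hx, rfl⟩
    refine mem_normalizer_of_forall (fun y hy => ?_) (fun y hy => ?_) <;> obtain ⟨z, hz, rfl⟩ := hy
    · exact ⟨x * z * x⁻¹, (mem_normalizer_iff.1 (hX hx) z).1 hz, by simp [mul_assoc]⟩
    · exact ⟨x⁻¹ * z * x, (mem_normalizer_iff''.1 (hX hx) z).1 hz, by simp [mul_assoc]⟩
  have hSJ : S ≤ normalizer (J : Set G) := hJ ▸ le_trans Subgroup.le_normalizer normalizer_le_J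
  have hSW : S ≤ normalizer (W : Set G) := hW ▸ le_trans Subgroup.le_normalizer normalizer_le_Jz
  obtain ⟨N, hN⟩ : ∃ N, N = J ⊔ cj g J := ⟨_, rfl⟩
  have hNQ : N ⊔ Cfsg.pCore p G = ⊤ := by
    rw [← top_le_iff, ← hg, ← hJgQ, ← hJQ, hN]
    exact sup_le (sup_le (le_sup_left.trans le_sup_left) le_sup_right)
      (sup_le (le_sup_right.trans le_sup_left) le_sup_right)
  have hNn : N.Normal := by
    rw [← normalizer_eq_top_iff, ← top_le_iff, ← hNQ]
    refine sup_le Subgroup.le_normalizer ?_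
    rw [hN]
    exact le_trans (le_inf (hQS.trans hSJ) (hQN (hQS.trans hSJ)))
      (Subgroup.normalizer_inf_normalizer_le_normalizer_sup _ _)
  have hWC : W ≤ centralizer (J : Set G) := hW ▸ hJ ▸ inf_le_right
  refine ⟨N, W ⊓ cj g W, hNn, hN ▸ le_sup_left, top_le_iff.1 (hNQ ▸ sup_le_sup_left hQS N), hNQ,
    inf_le_left, ?_, le_trans (le_inf (hQS.trans hSW) (hQN (hQS.trans hSW)))
      inf_normalizer_le_normalizer_inf, ?_⟩
  · rw [hN, le_centralizer_iff]
    refine sup_le ((le_centralizer_iff.1 hWC).trans (centralizer_le inf_le_left)) ?_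
    refine le_trans ?_ (centralizer_le inf_le_right)
    rintro _ ⟨x, hx, rfl⟩
    refine mem_centralizer_iff.2 ?_
    rintro _ ⟨w, hw, rfl⟩
    rw [← map_mul, ← map_mul, mem_centralizer_iff.1 (le_centralizer_iff.1 hWC hx) w hw]
  -- `W V` is normal
  have hCW : V ⊓ centralizer (S : Set G) ≤ W :=
    hW ▸ (inf_le_inf_right _ (o.le.trans hQS)).trans center_le_Jz
  have hWB : ∀ (A : Subgroup G), MA S A → ¬ A ≤ Cfsg.pCore p G →
      ∀ h : G, W ≤ cj h (A ⊓ Cfsg.pCore p G ⊔ V) := by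
    intro A hA hAQ h
    refine hW ▸ Jz_le (ma_cj (o.replace_ma A hA hAQ) ?_)
    exact (cj_mono (sup_le inf_le_right o.le)).trans ((cj_normal h _).le.trans hQS)
  haveI : (W ⊔ V).Normal := by
    rw [← normalizer_eq_top_iff, ← top_le_iff, ← hg]
    have hSn : S ≤ normalizer ((W ⊔ V : Subgroup G) : Set G) :=
      le_trans (le_inf hSW (le_top.trans (normalizer_eq_top_iff.2 o.normal).ge))
        (Subgroup.normalizer_inf_normalizer_le_normalizer_sup _ _)
    refine sup_le hSn ?_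
    rw [← hJgQ]
    refine sup_le ?_ (hQS.trans hSn)
    rw [hJ, cj, map_le_iff_le_comap]
    refine J_le fun A hA x hx => ?_
    rw [mem_comap]
    by_cases hAQ : A ≤ Cfsg.pCore p G
    · exact hSn (hQS ((pCore_normal p G).conj_mem x (hAQ hx) g))
    have key : ∀ a ∈ A, ∀ w ∈ W ⊔ V, (g * a * g⁻¹) * w * (g * a * g⁻¹)⁻¹ ∈ W ⊔ V := by
      intro a ha w hw
      obtain ⟨t, ht⟩ : ∃ t, t = g * a * g⁻¹ := ⟨_, rfl⟩
      rw [← ht]
      have hVn : ∀ v ∈ V, t * v * t⁻¹ ∈ V := fun v hv => o.normal.conj_mem v hv t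
      have hWn : ∀ w ∈ W, t * w * t⁻¹ ∈ W ⊔ V := by
        intro w hw
        have hw' := hWB A hA hAQ g hw
        rw [cj, Subgroup.map_sup, ← cj, ← cj, cj_normal g V, ← SetLike.mem_coe,
          Subgroup.mul_normal] at hw'
        obtain ⟨a', ha', v, hv, rfl⟩ := hw'
        have hfix : t * a' * t⁻¹ = a' := by
          obtain ⟨b, hb, rfl⟩ := ha'
          haveI := hA.2.1
          rw [ht, MulEquiv.coe_toMonoidHom, MulAut.conj_apply, mul_inv_eq_iff_eq_mul]
          calc g * a * g⁻¹ * (g * b * g⁻¹) = g * (a * b) * g⁻¹ := by group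
            _ = g * (b * a) * g⁻¹ := by
              rw [mem_centralizer_iff.1 (le_centralizer A (mem_inf.1 hb).1) a ha]
            _ = _ := by group
        rw [show t * (a' * v) * t⁻¹ = (t * a' * t⁻¹) * (t * v * t⁻¹) by group, hfix,
          show a' * (t * v * t⁻¹) = (a' * v) * (v⁻¹ * (t * v * t⁻¹)) by group]
        exact mul_mem (mem_sup_left hw) (mem_sup_right (mul_mem (inv_mem hv) (hVn v hv)))
      rw [← SetLike.mem_coe, Subgroup.mul_normal] at hw
      obtain ⟨w₁, hw₁, v, hv, rfl⟩ := hw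
      rw [show t * (w₁ * v) * t⁻¹ = (t * w₁ * t⁻¹) * (t * v * t⁻¹) by group]
      exact mul_mem (hWn w₁ hw₁) (mem_sup_right (hVn v hv))
    refine mem_normalizer_of_forall (fun w hw => key x hx w hw) fun w hw => ?_
    have := key x⁻¹ (inv_mem hx) w hw
    simpa [mul_assoc] using this
  intro z hz
  have h1 : z ∈ cj g (W ⊔ V) := by rw [cj_normal g (W ⊔ V)]; exact mem_sup_left hz
  rw [cj, Subgroup.map_sup, ← cj, ← cj, cj_normal g V, ← SetLike.mem_coe, Subgroup.mul_normal] at h1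
  obtain ⟨z', hz', v, hv, rfl⟩ := h1
  haveI := o.comm
  have hv' : v ∈ V ⊓ centralizer (S : Set G) ⊔ cj g (V ⊓ centralizer (S : Set G)) := by
    rw [o.eq_sup hV hZ hg]; exact hv
  rw [sup_comm] at hv'
  have hnorm : cj g (V ⊓ centralizer (S : Set G)) ≤
      normalizer ((V ⊓ centralizer (S : Set G) : Subgroup G) : Set G) :=
    (((cj_mono inf_le_left).trans (cj_normal g V).le).trans
      ((le_centralizer V).trans (centralizer_le inf_le_left))).trans
      (Subgroup.centralizer_le_normalizer _)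
  rw [← SetLike.mem_coe, coe_mul_of_left_le_normalizer_right _ _ hnorm] at hv'
  obtain ⟨c', hc', c, hc, rfl⟩ := hv'
  refine ⟨c, hc, ?_⟩
  rw [show z' * (c' * c) * c⁻¹ = z' * c' by group]
  refine mem_inf.2 ⟨?_, mul_mem hz' (cj_mono hCW hc')⟩
  have := mul_mem hz (inv_mem (hCW hc))
  simpa [mul_assoc] using this

/-- `C_S(Z(J(S)))` is a Sylow subgroup of the centralizer of a normal subgroup when `J(S) ≤ Q`. -/
theorem Jz_normal (sit : Sit p S) (h : ∀ A, MA S A → A ≤ Cfsg.pCore p G) :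
    (Cfsg.centerThompsonAOf S).Normal := by
  rw [← normalizer_eq_top_iff, eq_top_iff]
  intro g _
  haveI := pCore_normal p G
  have hJ : ∀ g : G, cj g (Cfsg.thompsonSubgroupAOf S) ≤ Cfsg.thompsonSubgroupAOf S := by
    intro g
    rw [cj, map_le_iff_le_comap]
    refine J_le fun A hA => ?_
    rw [← map_le_iff_le_comap]
    exact le_J (ma_cj hA ((cj_mono (h A hA)).trans ((cj_normal g _).le.trans sit.pCore_le)))
  have key : ∀ g : G, ∀ x ∈ Cfsg.centerThompsonAOf S,
      g * x * g⁻¹ ∈ Cfsg.centerThompsonAOf S := by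
    intro g x hx
    obtain ⟨hxJ, hxC⟩ := mem_inf.1 hx
    refine mem_inf.2 ⟨hJ g (conj_mem_cj hxJ), mem_centralizer_iff.2 fun y hy => ?_⟩
    have h := mem_centralizer_iff.1 hxC _ (hJ g⁻¹ (conj_mem_cj (g := g⁻¹) hy))
    simp only [inv_inv] at h
    calc y * (g * x * g⁻¹) = g * (g⁻¹ * y * g * x) * g⁻¹ := by group
      _ = g * (x * (g⁻¹ * y * g)) * g⁻¹ := by rw [h]
      _ = _ := by group
  exact mem_normalizer_of_forall (key g) fun x hx => by simpa using key g⁻¹ x hx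

/-- If a part of `Z(J(S))` centralized by `S` is not normal, then some abelian subgroup of largest
order lies outside `Q`, unless `C_S(Z(J(S)))` is normal. -/
theorem Sit.normal_of_forall_le (sit : Sit p S) (h : ∀ A, MA S A → A ≤ Cfsg.pCore p G)
    {T : Subgroup G} (hT : T ≤ Cfsg.centerThompsonAOf S) (hTS : T ≤ centralizer (S : Set G)) :
    T.Normal ∨ (S ⊓ centralizer (Cfsg.centerThompsonAOf S : Set G)).Normal := by
  haveI := Jz_normal sit h
  haveI := pCore_normal p G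
  rcases sit.sup_or (centralizer (Cfsg.centerThompsonAOf S : Set G)) with h1 | h1
  · right
    rw [show S ⊓ centralizer (Cfsg.centerThompsonAOf S : Set G) =
      Cfsg.pCore p G ⊓ centralizer (Cfsg.centerThompsonAOf S : Set G) from
      le_antisymm (le_inf h1 inf_le_right) (inf_le_inf_right _ sit.pCore_le)]
    infer_instance
  · exact Or.inl (normal_of_centralized h1
      (le_centralizer_iff.1 (centralizer_le hT)) hTS)

/-- If the commutator `[Z(J(S)), S]` meets `Z(S)` in a subgroup which is not normal, then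
`C_S(Z(J(S)))` is normal. -/
theorem Sit.commutator_case (sit : Sit p S) :
    (⁅Cfsg.centerThompsonAOf S, S⁆ ⊓ (S ⊓ centralizer (S : Set G))).Normal ∨
      (S ⊓ centralizer (Cfsg.centerThompsonAOf S : Set G)).Normal := by
  obtain ⟨T, hT⟩ : ∃ T, T = ⁅Cfsg.centerThompsonAOf S, S⁆ ⊓ (S ⊓ centralizer (S : Set G)) := ⟨_, rfl⟩
  rw [← hT]
  have hTS : T ≤ S ⊓ centralizer (S : Set G) := hT ▸ inf_le_right
  by_cases hAll : ∀ A, MA S A → A ≤ Cfsg.pCore p G
  · exact sit.normal_of_forall_le hAll (hTS.trans center_le_Jz) (hTS.trans inf_le_right)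
  push Not at hAll
  obtain ⟨A₀, hA₀, hA₀Q⟩ := hAll
  left
  by_contra hn
  obtain ⟨o⟩ : Nonempty (PLift (Off p S (normalClosure (T : Set G)))) :=
    ⟨⟨sit.off hTS hn hA₀ hA₀Q⟩⟩
  obtain ⟨N, Z0, hNn, hJN, hNS, hNQ, hZ0W, hZ0N, hQZ0, hdec⟩ :=
    o.down.center_decomp sit rfl (hTS.trans inf_le_right) hA₀ hA₀Q
  have hSJ : Cfsg.thompsonSubgroupAOf S ⊔ Cfsg.pCore p G = S :=
    le_antisymm (sup_le J_le_self sit.pCore_le)
      ((o.down.sup A₀ hA₀ hA₀Q).ge.trans (sup_le_sup_right (le_J hA₀) _))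
  have hSZ0 : S ≤ normalizer (Z0 : Set G) := by
    rw [← hSJ]
    exact sup_le ((hJN.trans (le_centralizer_iff.1 hZ0N)).trans
      (Subgroup.centralizer_le_normalizer _)) hQZ0
  refine hn (normal_of_centralized hNS ?_ (hTS.trans inf_le_right))
  refine le_trans ?_ hZ0N
  refine (hT ▸ inf_le_left : T ≤ ⁅Cfsg.centerThompsonAOf S, S⁆).trans (commutator_le.2 ?_)
  intro z hz s hs
  obtain ⟨c, hc, hzc⟩ := hdec z hz
  have hcs : c * s = s * c :=
    (mem_centralizer_iff.1 (mem_inf.1 hc).2 s hs).symm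
  have : ⁅z, s⁆ = (z * c⁻¹) * (s * (z * c⁻¹)⁻¹ * s⁻¹) := by
    rw [commutatorElement_def]
    calc z * s * z⁻¹ * s⁻¹ = (z * c⁻¹) * (c * s) * z⁻¹ * s⁻¹ := by group
      _ = (z * c⁻¹) * (s * c) * z⁻¹ * s⁻¹ := by rw [hcs]
      _ = _ := by group
  rw [this]
  exact mul_mem hzc ((mem_normalizer_iff.1 (hSZ0 hs) _).1 (inv_mem hzc))

/-- `C_S(Z(J(S)))` is a Sylow subgroup of its normal closure. -/
theorem Sit.closure_sylow (sit : Sit p S) (hZ : ¬ (S ⊓ centralizer (S : Set G)).Normal) :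
    S ⊓ normalClosure ((S ⊓ centralizer (Cfsg.centerThompsonAOf S : Set G) : Subgroup G) : Set G) =
      S ⊓ centralizer (Cfsg.centerThompsonAOf S : Set G) := by
  obtain ⟨D, hD⟩ : ∃ D, D = S ⊓ centralizer (Cfsg.centerThompsonAOf S : Set G) := ⟨_, rfl⟩
  rw [← hD]
  refine le_antisymm ?_ (le_inf (hD ▸ inf_le_left) le_normalClosure)
  by_cases hAll : ∀ A, MA S A → A ≤ Cfsg.pCore p G
  · haveI := Jz_normal sit hAll
    exact hD.ge.trans' (inf_le_inf_left S (normalClosure_le_normal (hD ▸ inf_le_right)))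
  push Not at hAll
  obtain ⟨A₀, hA₀, hA₀Q⟩ := hAll
  have o := sit.off le_rfl hZ hA₀ hA₀Q
  obtain ⟨N, Z0, hNn, hJN, hNS, hNQ, hZ0W, hZ0N, hQZ0, hdec⟩ :=
    o.center_decomp sit rfl inf_le_right hA₀ hA₀Q
  haveI := pCore_normal p G
  haveI := hNn
  have hSJ : Cfsg.thompsonSubgroupAOf S ⊔ Cfsg.pCore p G = S :=
    le_antisymm (sup_le J_le_self sit.pCore_le)
      ((o.sup A₀ hA₀ hA₀Q).ge.trans (sup_le_sup_right (le_J hA₀) _))
  obtain ⟨Q0, hQ0⟩ : ∃ Q0, Q0 = Cfsg.pCore p G ⊓ centralizer (Z0 : Set G) := ⟨_, rfl⟩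
  have hQ0D : Q0 ≤ D := by
    refine hD ▸ le_inf (hQ0 ▸ inf_le_left.trans sit.pCore_le) fun x hx => mem_centralizer_iff.2 ?_
    intro z hz
    obtain ⟨c, hc, hzc⟩ := hdec z hz
    rw [hQ0] at hx
    obtain ⟨hxQ, hxZ⟩ := mem_inf.1 hx
    have e1 := mem_centralizer_iff.1 hxZ _ hzc
    have e2 : c * x = x * c :=
      (mem_centralizer_iff.1 (mem_inf.1 hc).2 x (sit.pCore_le hxQ)).symm
    calc z * x = (z * c⁻¹) * (c * x) := by group
      _ = (z * c⁻¹) * (x * c) := by rw [e2]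
      _ = (z * c⁻¹) * x * c := by group
      _ = x * (z * c⁻¹) * c := by rw [e1]
      _ = x * z := by group
  haveI : Q0.Normal := by
    rw [← normalizer_eq_top_iff, ← top_le_iff, ← hNQ]
    refine sup_le ?_ ?_
    · rw [hQ0]
      exact le_trans (le_inf (by rw [normalizer_eq_top_iff.2 (pCore_normal p G)]; exact le_top)
        ((le_centralizer_iff.1 hZ0N).trans Subgroup.le_normalizer))
        inf_normalizer_le_normalizer_inf
    · rw [hQ0]
      refine le_trans (le_inf Subgroup.le_normalizer fun x hx => ?_) inf_normalizer_le_normalizer_inf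
      have hxn := hQZ0 hx
      refine mem_normalizer_of_forall (fun y hy => mem_centralizer_iff.2 fun w hw => ?_)
        (fun y hy => mem_centralizer_iff.2 fun w hw => ?_)
      · have h := mem_centralizer_iff.1 hy _ ((mem_normalizer_iff''.1 hxn w).1 hw)
        calc w * (x * y * x⁻¹) = x * (x⁻¹ * w * x * y) * x⁻¹ := by group
          _ = x * (y * (x⁻¹ * w * x)) * x⁻¹ := by rw [h]
          _ = _ := by group
      · have h := mem_centralizer_iff.1 hy _ ((mem_normalizer_iff.1 hxn w).1 hw)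
        calc w * (x⁻¹ * y * x) = x⁻¹ * (x * w * x⁻¹ * y) * x := by group
          _ = x⁻¹ * (y * (x * w * x⁻¹)) * x := by rw [h]
          _ = _ := by group
  have hsplit : ∀ x ∈ S, ∃ j ∈ Cfsg.thompsonSubgroupAOf S, ∃ y ∈ Cfsg.pCore p G, x = j * y := by
    intro x hx
    rw [← hSJ, ← SetLike.mem_coe, Subgroup.mul_normal] at hx
    obtain ⟨j, hj, y, hy, rfl⟩ := hx
    exact ⟨j, hj, y, hy, rfl⟩
  have hJD : Cfsg.thompsonSubgroupAOf S ≤ D :=
    hD ▸ le_inf J_le_self (le_centralizer_iff.1 inf_le_right)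
  have hNZ : N ≤ centralizer (Z0 : Set G) := le_centralizer_iff.1 hZ0N
  have hcl : normalClosure (D : Set G) ≤ N ⊔ Q0 := by
    refine normalClosure_le_normal fun x hx => ?_
    obtain ⟨hxS, hxC⟩ := mem_inf.1 (hD ▸ hx : x ∈ S ⊓ centralizer (Cfsg.centerThompsonAOf S : Set G))
    obtain ⟨j, hj, y, hy, rfl⟩ := hsplit x hxS
    refine mul_mem (mem_sup_left (hJN hj)) (mem_sup_right (hQ0 ▸ mem_inf.2 ⟨hy, ?_⟩))
    have h2 : y ∈ centralizer (Cfsg.centerThompsonAOf S : Set G) := by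
      have := mul_mem (inv_mem ((mem_inf.1 (hD ▸ hJD hj :
        j ∈ S ⊓ centralizer (Cfsg.centerThompsonAOf S : Set G))).2)) hxC
      simpa using this
    exact centralizer_le hZ0W h2
  intro x hx
  obtain ⟨hxS, hxN⟩ := mem_inf.1 hx
  obtain ⟨j, hj, y, hy, rfl⟩ := hsplit x hxS
  refine mul_mem (hJD hj) (hQ0D (hQ0 ▸ mem_inf.2 ⟨hy, ?_⟩))
  have h3 : N ⊔ Q0 ≤ centralizer (Z0 : Set G) := sup_le hNZ (hQ0 ▸ inf_le_right)
  have := mul_mem (inv_mem (hNZ (hJN hj))) (h3 (hcl hxN))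
  simpa using this

/-- If `Z(S)` is not elementary abelian then `℧¹(Z(S))` or `C_S(Z(J(S)))` is normal. -/
theorem Sit.power_case (sit : Sit p S) :
    (Cfsg.powerClosure p 1 (S ⊓ centralizer (S : Set G))).Normal ∨
      (S ⊓ centralizer (Cfsg.centerThompsonAOf S : Set G)).Normal := by
  obtain ⟨T, hT⟩ : ∃ T, T = Cfsg.powerClosure p 1 (S ⊓ centralizer (S : Set G)) := ⟨_, rfl⟩
  rw [← hT]
  have hTZ : T ≤ S ⊓ centralizer (S : Set G) := by
    rw [hT, Cfsg.powerClosure, closure_le]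
    rintro _ ⟨x, hx, rfl⟩
    exact pow_mem hx _
  by_cases hAll : ∀ A, MA S A → A ≤ Cfsg.pCore p G
  · exact sit.normal_of_forall_le hAll (hTZ.trans center_le_Jz) (hTZ.trans inf_le_right)
  push Not at hAll
  obtain ⟨A₀, hA₀, hA₀Q⟩ := hAll
  left
  by_cases hn : (S ⊓ centralizer (S : Set G)).Normal
  · haveI := hn
    obtain ⟨a, ha, haQ⟩ := SetLike.not_le_iff_exists.1 hA₀Q
    exact normal_of_centralized
      (sit.sup_eq_top (N := centralizer ((S ⊓ centralizer (S : Set G) : Subgroup G) : Set G))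
        (hA₀.1 ha) (centralizer_le inf_le_right (le_centralizer_iff.1 le_rfl (hA₀.1 ha))) haQ)
      (le_centralizer_iff.1 (centralizer_le hTZ)) (hTZ.trans inf_le_right)
  have o := sit.off le_rfl hn hA₀ hA₀Q
  obtain ⟨V, hV⟩ : ∃ V, V = normalClosure ((S ⊓ centralizer (S : Set G) : Subgroup G) : Set G) := ⟨_, rfl⟩
  rw [← hV] at o
  haveI := o.normal
  haveI := o.comm
  obtain ⟨-, -, hpQ, -⟩ : ∃ q : ℕ, 1 < q ∧ (∀ a ∈ S, a ^ p ∈ Cfsg.pCore p G) ∧ True := by
    obtain ⟨q, h1, -, h2, -⟩ := sit.exists_q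
    exact ⟨q, h1, h2, trivial⟩
  have hpV : ∀ v ∈ V, v ^ p ∈ centralizer (S : Set G) := by
    intro v hv
    refine mem_centralizer_iff.2 fun s hs => ?_
    obtain ⟨u, hu⟩ : ∃ u, u = s * v * s⁻¹ * v⁻¹ := ⟨_, rfl⟩
    obtain ⟨huV, huS⟩ := mem_inf.1 (hu ▸ o.quad v hv s hs : u ∈ V ⊓ centralizer (S : Set G))
    have hsu : s * u * s⁻¹ = u := by
      rw [mem_centralizer_iff.1 huS s hs, mul_inv_cancel_right]
    have hsv : s * v * s⁻¹ = u * v := by rw [hu]; group
    have hiter : ∀ i : ℕ, s ^ i * v * (s ^ i)⁻¹ = u ^ i * v := by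
      intro i
      induction i with
      | zero => simp
      | succ i ih =>
        calc s ^ (i + 1) * v * (s ^ (i + 1))⁻¹ = s * (s ^ i * v * (s ^ i)⁻¹) * s⁻¹ := by
              rw [pow_succ']; group
          _ = s * (u ^ i * v) * s⁻¹ := by rw [ih]
          _ = (s * u * s⁻¹) ^ i * (s * v * s⁻¹) := by rw [conj_pow]; group
          _ = _ := by rw [hsu, hsv, pow_succ, mul_assoc]
    have hup : u ^ p = 1 := by
      have h1 := hiter p
      rw [← mem_centralizer_iff.1 (o.cent (hpQ s hs)) v hv, mul_inv_cancel_right] at h1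
      exact (mul_eq_right.1 h1.symm)
    have hcomm : Commute u v :=
      (mem_centralizer_iff.1 (le_centralizer V huV) v hv).symm
    have h2 : s * v ^ p * s⁻¹ = v ^ p := by
      rw [← conj_pow, hsv, hcomm.mul_pow, hup, one_mul]
    exact mul_inv_eq_iff_eq_mul.1 h2
  obtain ⟨N, hN⟩ : ∃ N, N = closure {y : G | ∃ x ∈ V, y = x ^ p} := ⟨_, rfl⟩
  haveI : N.Normal := by
    refine ⟨fun n hn g => ?_⟩
    have hle : N ≤ N.comap (MulAut.conj g).toMonoidHom := by
      conv_lhs => rw [hN]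
      rw [closure_le]
      rintro _ ⟨x, hx, rfl⟩
      rw [SetLike.mem_coe, mem_comap, hN]
      exact subset_closure ⟨g * x * g⁻¹, o.normal.conj_mem x hx g, by simp [conj_pow]⟩
    simpa using hle hn
  have hNS : N ≤ centralizer (S : Set G) := by
    rw [hN, closure_le]
    rintro _ ⟨x, hx, rfl⟩
    exact hpV x hx
  have hTN : T ≤ N := by
    rw [hT, Cfsg.powerClosure, closure_le]
    rintro _ ⟨x, hx, rfl⟩
    rw [hN, pow_one]
    exact subset_closure ⟨x, hV ▸ subset_normalClosure hx, rfl⟩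
  obtain ⟨a, ha, haQ⟩ := SetLike.not_le_iff_exists.1 hA₀Q
  exact normal_of_centralized (sit.sup_eq_top (N := centralizer (N : Set G)) (hA₀.1 ha)
    (le_centralizer_iff.1 hNS (hA₀.1 ha)) haQ)
    (le_centralizer_iff.1 (centralizer_le hTN)) (hTZ.trans inf_le_right)

end CfsgLib.PushUp
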