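import Cfsg.Agent.Lib.PushUp.PSLFacts
import Cfsg.Agent.Lib.ModBound.Linear

/-!
# Fixed points on a normal `p`-subgroup of elements mapping onto transvections of `PSL₂`
-/

set_option autoImplicit false
set_option linter.style.haveILetI false
set_option linter.unusedSectionVars false

namespace CfsgLib.PushUp

open Subgroup

variable {G : Type*} [Group G] [Finite G] {p : ℕ} [Fact p.Prime]

/-- `a` moves at least `pⁿ` cosets of its fixed points -/
theorem pow_le_relIndex {F : Type*} [Field F] [Fintype F] {n : ℕ} (hF : Fintype.card F = p ^ n)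
    (hn : 2 ≤ n) {V : Subgroup G} [V.Normal] (hV : IsPGroup p V)
    (π : G →* Matrix.ProjectiveSpecialLinearGroup (Fin 2) F) (hπ : Function.Surjective π)
    (hker : centralizer (V : Set G) ≤ π.ker) {a : G} (ha : π a ≠ 1) (hap : (π a) ^ p = 1) :
    p ^ n ≤ (V ⊓ centralizer ({a} : Set G)).relIndex V := by
  classical
  haveI := (charP_of_card hF).1
  obtain ⟨r, e, hr, hrp, hmin, H'⟩ :=
    CfsgLib.ModBound.psl_singer (p := p) hF (Or.inr hn)
  haveI : Fact r.Prime := ⟨hr⟩
  obtain ⟨hbar, ybar, hy, hyo⟩ := H' (π a) hap ha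
  obtain ⟨h, rfl⟩ := hπ hbar
  have hy' : ybar ∈ (closure ({a, h * a * h⁻¹} : Set G)).map π := by
    rwa [MonoidHom.map_closure, Set.image_pair, map_mul, map_mul, map_inv]
  obtain ⟨y, hyT, rfl⟩ := hy'
  obtain ⟨c, l, hl, hcl⟩ := Nat.exists_eq_pow_mul_and_not_dvd (orderOf_pos y).ne' r hr.ne_one
  obtain ⟨z, hz⟩ : ∃ z, z = y ^ l := ⟨_, rfl⟩
  have hzc : z ^ r ^ c = 1 := by
    rw [hz, ← pow_mul, mul_comm, ← hcl, pow_orderOf_eq_one]
  have hzo : orderOf (π z) = r ^ (e + 1) := by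
    rw [hz, map_pow, Nat.Coprime.orderOf_pow, hyo]
    rw [hyo]
    exact (hr.coprime_iff_not_dvd.2 hl).pow_left _
  have hex : ∃ m, z ^ r ^ m ∈ centralizer (V : Set G) := ⟨c, hzc ▸ one_mem _⟩
  obtain ⟨m, hmC, hmin'⟩ : ∃ m, z ^ r ^ m ∈ centralizer (V : Set G) ∧
      ∀ j < m, z ^ r ^ j ∉ centralizer (V : Set G) :=
    ⟨Nat.find hex, Nat.find_spec hex, fun j hj => Nat.find_min hex hj⟩
  have hem : e + 1 ≤ m := by
    have h1 : π z ^ r ^ m = 1 := by rw [← map_pow]; exact hker hmC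
    have h2 := orderOf_dvd_of_pow_eq_one h1
    rw [hzo] at h2
    exact (Nat.pow_dvd_pow_iff_le_right hr.one_lt).1 h2
  obtain ⟨e', rfl⟩ : ∃ e', m = e' + 1 := ⟨m - 1, by omega⟩
  have h1 : p ^ (2 * n) ≤ (V ⊓ centralizer ({z ^ r ^ e'} : Set G)).relIndex V := by
    refine CfsgLib.ModBound.pow_le_relIndex_of_action V hV ?_ hmC hrp (hmin' e' (Nat.lt_succ_self _))
      fun l' hl' hld hdiv => hmin l' hl' hld ((pow_dvd_pow r hem).trans hdiv)
    rw [normalizer_eq_top_iff.2 inferInstance]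
    exact mem_top z
  obtain ⟨C, hC⟩ : ∃ C, C = V ⊓ centralizer ({a} : Set G) := ⟨_, rfl⟩
  rw [← hC]
  obtain ⟨C', hC'⟩ : ∃ C', C' = V ⊓ centralizer ({h * a * h⁻¹} : Set G) := ⟨_, rfl⟩
  have hsub : C ⊓ C' ≤ V ⊓ centralizer ({z ^ r ^ e'} : Set G) := by
    intro v hv
    obtain ⟨hv1, hv2⟩ := mem_inf.1 hv
    rw [hC] at hv1
    rw [hC'] at hv2
    refine mem_inf.2 ⟨(mem_inf.1 hv1).1, mem_centralizer_singleton_iff.2 ?_⟩
    have hT : closure ({a, h * a * h⁻¹} : Set G) ≤ centralizer ({v} : Set G) := by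
      rw [closure_le]
      rintro w (rfl | rfl) <;> refine mem_centralizer_singleton_iff.2 ?_
      · exact (mem_centralizer_singleton_iff.1 (mem_inf.1 hv1).2).symm
      · exact (mem_centralizer_singleton_iff.1 (mem_inf.1 hv2).2).symm
    have h3 : z ^ r ^ e' ∈ centralizer ({v} : Set G) := pow_mem (hz ▸ pow_mem (hT hyT) _) _
    exact (mem_centralizer_singleton_iff.1 h3).symm
  have hconj : C'.relIndex V = C.relIndex V := by
    have hCm : C.map (MulAut.conj h).toMonoidHom = C' := by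
      ext x
      rw [hC, hC', mem_map_equiv, MulAut.conj_symm_apply, mem_inf, mem_inf,
        mem_centralizer_singleton_iff, mem_centralizer_singleton_iff]
      refine and_congr ?_ ?_
      · exact ⟨fun hx => by simpa [mul_assoc] using ‹V.Normal›.conj_mem _ hx h,
          fun hx => by simpa [mul_assoc] using ‹V.Normal›.conj_mem _ hx h⁻¹⟩
      · constructor <;> intro hx
        · calc x * (h * a * h⁻¹) = h * (h⁻¹ * x * h * a) * h⁻¹ := by group
            _ = h * (a * (h⁻¹ * x * h)) * h⁻¹ := by rw [hx]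
            _ = _ := by group
        · calc h⁻¹ * x * h * a = h⁻¹ * (x * (h * a * h⁻¹)) * h := by group
            _ = h⁻¹ * (h * a * h⁻¹ * x) * h := by rw [hx]
            _ = _ := by group
    have hVm : V.map (MulAut.conj h).toMonoidHom = V := by
      ext x
      rw [mem_map_equiv, MulAut.conj_symm_apply]
      exact ⟨fun hx => by simpa [mul_assoc] using ‹V.Normal›.conj_mem _ hx h,
        fun hx => by simpa [mul_assoc] using ‹V.Normal›.conj_mem _ hx h⁻¹⟩
    conv_lhs => rw [← hCm, ← hVm]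
    exact relIndex_map_map_of_injective _ _ (MulAut.conj h).injective
  have h2 : p ^ (2 * n) ≤ C.relIndex V * C.relIndex V := by
    refine h1.trans ?_
    calc _ ≤ (C ⊓ C').relIndex V :=
          Nat.le_of_dvd (CfsgLib.ModBound.relIndex_pos _ _) (relIndex_dvd_of_le_left V hsub)
      _ ≤ C.relIndex V * C'.relIndex V := relIndex_inf_le (L := V)
      _ = _ := by rw [hconj]
  rw [show p ^ (2 * n) = (p ^ n) * (p ^ n) by rw [← pow_add]; ring_nf] at h2
  exact Nat.mul_self_le_mul_self_iff.1 h2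

end CfsgLib.PushUp
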