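import Cfsg.Prelude.Def_BaumannBlocks
import Cfsg.Agent.Lib.PushUp.Bound
import Cfsg.Agent.Lib.PGroup.Basic
import Cfsg.Agent.Lib.Fusion.MaxFamily

/-!
# The basic pushing-up situation
-/

set_option autoImplicit false
set_option linter.style.haveILetI false

open Subgroup

namespace CfsgLib.PushUp

universe u

variable {G : Type u} [Group G]

/-- The pushing-up situation, without the nontriviality of `G`. -/
structure Sit (p : ℕ) (S : Subgroup G) : Prop where
  sylow : ∃ P : Sylow p G, (P : Subgroup G) = S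
  constr : centralizer (Cfsg.pCore p G : Set G) ≤ Cfsg.pCore p G
  uniq : ∃! M : Subgroup G, IsCoatom M ∧ S ≤ M
  psl : ∃ (K : Subgroup G) (_ : K.Normal) (F : Type) (_ : Field F) (_ : Fintype F) (n : ℕ),
    Fintype.card F = p ^ n ∧ Nonempty (G ⧸ K ≃* Matrix.ProjectiveSpecialLinearGroup (Fin 2) F)

theorem sit_of_isPushingUp {p : ℕ} {S : Subgroup G} (h : Cfsg.IsPushingUpSituation p S) : Sit p S :=
  ⟨h.2.1, h.2.2.1, h.2.2.2.1, h.2.2.2.2⟩

variable [Finite G] {p : ℕ} [Fact p.Prime] {S : Subgroup G}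

theorem pCore_normal (p : ℕ) (G : Type u) [Group G] : (Cfsg.pCore p G).Normal :=
  Subgroup.sSup_normal _ fun _ h => h.1

theorem Sit.isPGroup (sit : Sit p S) : IsPGroup p S := by
  obtain ⟨P, rfl⟩ := sit.sylow
  exact P.2

theorem Sit.pCore_le (sit : Sit p S) : Cfsg.pCore p G ≤ S := by
  obtain ⟨P, rfl⟩ := sit.sylow
  exact CfsgLib.PGroup.pCore_le_sylow P

/-- A normal subgroup meets `S` in `O_p(G)` or supplements it. -/
theorem Sit.sup_or (sit : Sit p S) (N : Subgroup G) [N.Normal] :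
    S ⊓ N ≤ Cfsg.pCore p G ∨ N ⊔ S = ⊤ := by
  classical
  obtain ⟨P, rfl⟩ := sit.sylow
  by_contra h
  push Not at h
  obtain ⟨h1, h2⟩ := h
  obtain ⟨M, ⟨hM, hSM⟩, huniq⟩ := sit.uniq
  have hle : ∀ W : Subgroup G, (P : Subgroup G) ≤ W → W ≠ ⊤ → W ≤ M := by
    intro W hSW hW
    obtain ⟨M', hM', hWM'⟩ := (eq_top_or_exists_le_coatom W).resolve_left hW
    exact huniq M' ⟨hM', hSW.trans hWM'⟩ ▸ hWM'
  obtain ⟨D, hD⟩ : ∃ D, D = (P : Subgroup G) ⊓ N := ⟨_, rfl⟩
  rw [← hD] at h1
  have hSD : (P : Subgroup G) ≤ normalizer (D : Set G) := by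
    rw [hD]
    exact le_trans (le_inf Subgroup.le_normalizer
      (by rw [normalizer_eq_top_iff.2 ‹N.Normal›]; exact le_top)) inf_normalizer_le_normalizer_inf
  have hne : normalizer (D : Set G) ≠ ⊤ := fun e => h1 (CfsgLib.PGroup.le_pCore
    (normalizer_eq_top_iff.1 e) (P.2.to_le (hD ▸ inf_le_left)))
  have hNM : N ≤ M := le_sup_left.trans (hle _ le_sup_right h2)
  refine hM.1 ((Subgroup.eq_top_iff' M).2 fun g => ?_)
  -- Frattini argument
  obtain ⟨P', hP'⟩ : ∃ P' : Sylow p N, (P' : Subgroup N) = (P : Subgroup G).subgroupOf N := by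
    obtain ⟨R, hR⟩ := IsPGroup.exists_le_sylow (G := N)
      (P.2.comap_of_injective N.subtype N.subtype_injective)
    refine ⟨R, le_antisymm (fun x hx => ?_) hR⟩
    obtain ⟨R', hRR'⟩ := IsPGroup.exists_le_sylow (R.2.map N.subtype)
    obtain ⟨y, hy⟩ := MulAction.exists_smul_eq G R' P
    exact (le_sylow_inf_of_conj R hR hRR' hy) hx
  have htop := Sylow.normalizer_sup_eq_top P'
  have hmem : g ∈ normalizer (((P' : Subgroup N).map N.subtype : Subgroup G) : Set G) ⊔ N := by
    rw [htop]; exact mem_top g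
  rw [hP', subgroupOf_map_subtype, ← hD] at hmem
  exact sup_le (hle _ hSD hne) hNM hmem
where
  le_sylow_inf_of_conj {N : Subgroup G} [N.Normal] {P R' : Sylow p G} (R : Sylow p N)
      (hR : (P : Subgroup G).subgroupOf N ≤ R) (hRR' : (R : Subgroup N).map N.subtype ≤ R') {y : G}
      (hy : y • R' = P) : (R : Subgroup N) ≤ (P : Subgroup G).subgroupOf N := by
    have h1 : Nat.card R ≤ Nat.card ((P : Subgroup G).subgroupOf N) := by
      refine le_of_eq_of_le (b := Nat.card ((R : Subgroup N).map N.subtype))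
        (card_map_of_injective N.subtype_injective).symm ?_
      let f : ↥((R : Subgroup N).map N.subtype) → ↥((P : Subgroup G).subgroupOf N) := fun x =>
        ⟨⟨y * x * y⁻¹, ‹N.Normal›.conj_mem _ (map_subtype_le _ x.2) y⟩, by
          rw [mem_subgroupOf]
          show y * x * y⁻¹ ∈ (P : Subgroup G)
          rw [← hy, Sylow.coe_subgroup_smul]
          exact ⟨x, hRR' x.2, rfl⟩⟩
      exact Nat.card_le_card_of_injective f fun a b hab => Subtype.ext (by
        have := congrArg (fun z : ↥((P : Subgroup G).subgroupOf N) => ((z : N) : G)) hab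
        simpa [f] using this)
    exact (eq_of_le_of_card_ge hR h1).ge

/-- A normal subgroup containing a subgroup of `S` outside `O_p(G)` supplements `S`. -/
theorem Sit.sup_eq_top (sit : Sit p S) {N : Subgroup G} [N.Normal] {a : G} (haS : a ∈ S)
    (haN : a ∈ N) (haQ : a ∉ Cfsg.pCore p G) : N ⊔ S = ⊤ :=
  (sit.sup_or N).resolve_left fun h => haQ (h ⟨haS, haN⟩)

/-- An element centralized by `S` and by a supplement of `S` is central. -/
theorem mem_center_of_sup_eq_top {N : Subgroup G} (h : N ⊔ S = ⊤) {t : G}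
    (hN : t ∈ centralizer (N : Set G)) (hS : t ∈ centralizer (S : Set G)) : t ∈ center G := by
  rw [mem_center_iff]
  intro g
  have : g ∈ centralizer ({t} : Set G) := by
    refine (sup_le ?_ ?_ : N ⊔ S ≤ centralizer ({t} : Set G)) (h ▸ mem_top g) <;>
      refine fun x hx => mem_centralizer_singleton_iff.2 ?_
    · exact mem_centralizer_iff.1 hN x hx
    · exact mem_centralizer_iff.1 hS x hx
  exact mem_centralizer_singleton_iff.1 this

theorem normal_of_le_center {T : Subgroup G} (h : T ≤ center G) : T.Normal :=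
  ⟨fun t ht g => by
    rw [mem_center_iff.1 (h ht) g, mul_inv_cancel_right]
    exact ht⟩

/-- A subgroup centralized by `S` whose centralizer contains a supplement of `S` is normal. -/
theorem normal_of_centralized {N T : Subgroup G} (h : N ⊔ S = ⊤) (hN : T ≤ centralizer (N : Set G))
    (hS : T ≤ centralizer (S : Set G)) : T.Normal :=
  normal_of_le_center fun _ ht => mem_center_of_sup_eq_top h (hN ht) (hS ht)

/-- The numerical consequences of the quotient `PSL₂(q)`. -/
theorem Sit.exists_q (sit : Sit p S) : ∃ q : ℕ, 1 < q ∧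
    (Cfsg.pCore p G).relIndex S ≤ q ∧ (∀ a ∈ S, a ^ p ∈ Cfsg.pCore p G) ∧
    ∀ V : Subgroup G, V.Normal → IsPGroup p V → centralizer (V : Set G) ⊔ S ≠ ⊤ →
      ∀ a ∈ S, a ∉ Cfsg.pCore p G → q ≤ (V ⊓ centralizer ({a} : Set G)).relIndex V := by
  classical
  obtain ⟨K, hK, F, _, _, n, hF, ⟨ψ⟩⟩ := sit.psl
  haveI := hK
  obtain ⟨_, hn⟩ := charP_of_card hF
  haveI : CharP F p := (charP_of_card hF).1
  obtain ⟨π, hπdef⟩ : ∃ π, π = ψ.toMonoidHom.comp (QuotientGroup.mk' K) := ⟨_, rfl⟩
  have hπ : Function.Surjective π := by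
    rw [hπdef]; exact ψ.surjective.comp (QuotientGroup.mk'_surjective K)
  have hker : π.ker = K := by
    rw [hπdef, show (ψ.toMonoidHom.comp (QuotientGroup.mk' K)).ker = (QuotientGroup.mk' K).ker from
      MonoidHom.ker_mulEquiv_comp (QuotientGroup.mk' K) ψ, QuotientGroup.ker_mk']
  have hKS : K ⊔ S ≠ ⊤ := by
    intro e
    refine psl_not_pgroup hF (p := p) fun x => ?_
    obtain ⟨g, rfl⟩ := hπ x
    have hg : g ∈ (K ⊔ S : Subgroup G) := e ▸ mem_top g
    rw [sup_comm, mem_sup_of_normal_right] at hg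
    obtain ⟨s, hs, k, hk, rfl⟩ := hg
    obtain ⟨i, hi⟩ := sit.isPGroup ⟨s, hs⟩
    refine ⟨i, ?_⟩
    rw [map_mul, MonoidHom.mem_ker.1 (hker.ge hk), mul_one, ← map_pow]
    have := congrArg Subtype.val hi
    rw [SubgroupClass.coe_pow, OneMemClass.coe_one] at this
    rw [this, map_one]
  have hSK : S ⊓ K ≤ Cfsg.pCore p G := (sit.sup_or K).resolve_right hKS
  have hpow : ∀ a ∈ S, π a ^ p = 1 := by
    intro a ha
    obtain ⟨i, hi⟩ := sit.isPGroup ⟨a, ha⟩
    refine psl_pow_p (k := i) ?_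
    rw [← map_pow]
    have := congrArg Subtype.val hi
    rw [SubgroupClass.coe_pow, OneMemClass.coe_one] at this
    rw [this, map_one]
  refine ⟨p ^ n, Nat.one_lt_pow (by omega) (Fact.out : p.Prime).one_lt, ?_, fun a ha => ?_, ?_⟩
  · have h1 : (S ⊓ K).relIndex S ≤ p ^ n := by
      rw [inf_relIndex_left, ← hker, relIndex_ker]
      exact psl_pgroup_card_le hF (sit.isPGroup.map π)
    exact (Nat.le_of_dvd (CfsgLib.ModBound.relIndex_pos _ _)
      (relIndex_dvd_of_le_left S hSK)).trans h1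
  · refine hSK ⟨pow_mem ha p, ?_⟩
    refine hker.le ?_
    rw [MonoidHom.mem_ker, map_pow, hpow a ha]
  · intro V hV hVp hCS a ha haQ
    haveI := hV
    rcases Nat.lt_or_ge n 2 with h | h
    · obtain rfl : n = 1 := by omega
      rw [pow_one]
      refine CfsgLib.ModBound.prime_le_relIndex V hVp fun hc => hCS ?_
      exact sit.sup_eq_top ha hc haQ
    · refine pow_le_relIndex hF h hVp π hπ ?_ ?_ (hpow a ha)
      · -- the centralizer lies in the kernel
        obtain ⟨M, ⟨hM, hSM⟩, huniq⟩ := sit.uniq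
        have hle : ∀ W : Subgroup G, W ⊔ S ≠ ⊤ → W ≤ M := by
          intro W hW
          obtain ⟨M', hM', hWM'⟩ := (eq_top_or_exists_le_coatom (W ⊔ S)).resolve_left hW
          exact huniq M' ⟨hM', le_sup_right.trans hWM'⟩ ▸ le_sup_left.trans hWM'
        haveI : IsSimpleGroup (Matrix.ProjectiveSpecialLinearGroup (Fin 2) F) := psl_simple hF h
        have hn' : ((centralizer (V : Set G)).map π).Normal :=
          Subgroup.Normal.map inferInstance π hπ
        rcases hn'.eq_bot_or_eq_top with e | e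
        · exact (Subgroup.map_eq_bot_iff _).1 e
        · refine absurd ?_ hM.1
          have h2 := congrArg (comap π) e
          rw [comap_map_eq, comap_top, hker] at h2
          exact top_le_iff.1 (h2.ge.trans (sup_le (hle _ hCS) (hle _ hKS)))
      · intro e
        exact haQ (hSK ⟨ha, hker.le e⟩)

end CfsgLib.PushUp
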