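import Cfsg.Agent.Lib.ModBound.PSL
import Cfsg.Agent.Lib.Perm.Dickson.Minimal
import Cfsg.Agent.Lib.Perm.Dickson.Bridge

/-!
# Elementary facts on the Sylow `p`-subgroups of `PSL₂(pⁿ)`
-/

set_option autoImplicit false
set_option linter.style.haveILetI false
set_option linter.unusedSectionVars false

namespace CfsgLib.PushUp

open Matrix

variable {F : Type*} [Field F] [Fintype F] {p : ℕ} [Fact p.Prime] {n : ℕ}

theorem charP_of_card (hF : Fintype.card F = p ^ n) : CharP F p ∧ 1 ≤ n := by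
  have hn : 1 ≤ n := by
    by_contra h
    have := Fintype.one_lt_card (α := F)
    rw [hF, show n = 0 by omega, pow_zero] at this
    exact lt_irrefl 1 this
  obtain ⟨r, hr⟩ := CharP.exists F
  haveI := hr
  obtain ⟨m, hrp, hm⟩ := FiniteField.card F r
  have h1 : p ∣ r ^ (m : ℕ) := by
    rw [← hm, hF]
    exact dvd_pow_self p (by omega)
  have h2 : p = r := (Nat.prime_dvd_prime_iff_eq Fact.out hrp).1 ((Fact.out : p.Prime).dvd_of_dvd_pow h1)
  exact ⟨h2 ▸ hr, hn⟩

/-- a `p`-element of `SL₂` in characteristic `p` has order dividing `p` -/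
theorem sl_pow_p [CharP F p] {A : Matrix.SpecialLinearGroup (Fin 2) F} {k : ℕ}
    (hA : A ^ p ^ k = 1) : A ^ p = 1 := by
  haveI : CharP (Matrix (Fin 2) (Fin 2) F) p := charP_of_injective_algebraMap
    (algebraMap F (Matrix (Fin 2) (Fin 2) F)).injective p
  obtain ⟨N, hN⟩ : ∃ N, N = A.1 - 1 := ⟨_, rfl⟩
  have hnil : N ^ p ^ k = 0 := by
    rw [hN, sub_pow_char_pow_of_commute p k (Commute.one_right A.1), one_pow,
      ← CfsgLib.ModBound.val_pow, hA, CfsgLib.ModBound.val_one, sub_self]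
  have hdet : N.det = 0 := by
    have h1 := congrArg Matrix.det hnil
    rw [Matrix.det_pow, Matrix.det_zero] at h1
    exact (pow_eq_zero_iff (pow_ne_zero k (Fact.out : p.Prime).ne_zero)).1 h1
  obtain ⟨t, ht⟩ : ∃ t, t = N 0 0 + N 1 1 := ⟨_, rfl⟩
  have hsq : N * N = t • N := by
    rw [Matrix.det_fin_two] at hdet
    ext i j
    fin_cases i <;> fin_cases j <;> simp [Matrix.mul_apply, Fin.sum_univ_two, ht] <;>
      first | ring1 | linear_combination -hdet | linear_combination hdet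
  have hpow : ∀ m : ℕ, N ^ (m + 1) = t ^ m • N := by
    intro m
    induction m with
    | zero => simp
    | succ m ih => rw [pow_succ, ih, Matrix.smul_mul, hsq, smul_smul, pow_succ]
  have hz : N * N = 0 := by
    obtain ⟨m, hm⟩ : ∃ m, p ^ k = m + 1 := ⟨p ^ k - 1, by
      have := Nat.pow_pos (n := k) (Fact.out : p.Prime).pos
      omega⟩
    have h1 := hpow m
    rw [← hm, hnil, eq_comm, smul_eq_zero] at h1
    rcases h1 with h1 | h1
    · rw [hsq, (pow_eq_zero_iff'.1 h1).1, zero_smul]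
    · rw [h1, mul_zero]
  have h2 : N ^ p = 0 := by
    rw [show p = 2 + (p - 2) by have := (Fact.out : p.Prime).two_le; omega, pow_add, pow_two, hz,
      zero_mul]
  refine Subtype.ext ?_
  rw [CfsgLib.ModBound.val_pow, CfsgLib.ModBound.val_one]
  rw [hN, sub_pow_char_of_commute p (Commute.one_right A.1), one_pow, sub_eq_zero] at h2
  exact h2

/-- a `p`-element of `PSL₂` in characteristic `p` has order dividing `p` -/
theorem psl_pow_p [CharP F p] {g : Matrix.ProjectiveSpecialLinearGroup (Fin 2) F} {k : ℕ}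
    (hg : g ^ p ^ k = 1) : g ^ p = 1 := by
  classical
  obtain ⟨A, rfl⟩ := CfsgLib.PSL2Two.π_surjective g
  obtain ⟨c, m, hm, hord⟩ :=
    Nat.exists_eq_pow_mul_and_not_dvd (orderOf_pos A).ne' p (Fact.out : p.Prime).ne_one
  -- the `p`-part of `A` has the same image
  obtain ⟨B, hB⟩ : ∃ B, B = A ^ m := ⟨_, rfl⟩
  have hBp : B ^ p ^ c = 1 := by rw [hB, ← pow_mul, mul_comm, ← hord, pow_orderOf_eq_one]
  have h1 := sl_pow_p hBp
  have hcop : (p ^ k).Coprime m := ((Fact.out : p.Prime).coprime_iff_not_dvd.2 hm).pow_left k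
  have h2 : CfsgLib.PSL2Two.π A ^ (m * p) = 1 := by
    rw [pow_mul, ← map_pow, ← hB, ← map_pow, h1, map_one]
  have h3 : orderOf (CfsgLib.PSL2Two.π A) ∣ p := by
    refine Nat.Coprime.dvd_of_dvd_mul_left ?_ (orderOf_dvd_of_pow_eq_one h2)
    exact hcop.coprime_dvd_left (orderOf_dvd_of_pow_eq_one hg)
  exact orderOf_dvd_iff_pow_eq_one.1 h3

/-- the Sylow `p`-subgroups of `PSL₂(pⁿ)` have order `pⁿ` -/
theorem psl_factorization (hF : Fintype.card F = p ^ n) :
    (Nat.card (Matrix.ProjectiveSpecialLinearGroup (Fin 2) F)).factorization p = n := by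
  haveI := (charP_of_card hF).1
  rw [CfsgLib.Perm.Dickson.card_S2P]
  exact CfsgLib.Perm.Dickson.factorization_card_psl p (Nat.card_eq_fintype_card.trans hF)

theorem psl_pgroup_card_le (hF : Fintype.card F = p ^ n)
    {H : Subgroup (Matrix.ProjectiveSpecialLinearGroup (Fin 2) F)} (hH : IsPGroup p H) :
    Nat.card H ≤ p ^ n := by
  obtain ⟨j, hj⟩ := IsPGroup.iff_card.1 hH
  rw [hj]
  refine Nat.pow_le_pow_right (Fact.out : p.Prime).pos ?_
  rw [← psl_factorization hF]
  exact ((Fact.out : p.Prime).pow_dvd_iff_le_factorization Nat.card_pos.ne').1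
    (hj ▸ Subgroup.card_subgroup_dvd_card H)

theorem psl_not_pgroup (hF : Fintype.card F = p ^ n) :
    ¬ IsPGroup p (Matrix.ProjectiveSpecialLinearGroup (Fin 2) F) := by
  intro h
  haveI := (charP_of_card hF).1
  obtain ⟨j, hj⟩ := IsPGroup.iff_card.1 h
  have hjn : j = n := by
    rw [← psl_factorization hF, hj, Nat.Prime.factorization_pow Fact.out, Finsupp.single_eq_same]
  have hc := CfsgLib.Perm.Dickson.card_psl (F := F)
  rw [← CfsgLib.Perm.Dickson.card_S2P, hj, hjn, Nat.card_eq_fintype_card, hF] at hc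
  obtain ⟨q, hq⟩ : ∃ q, q = p ^ n := ⟨_, rfl⟩
  rw [← hq] at hc
  have hq1 : 1 < q := hq ▸ hF ▸ Fintype.one_lt_card
  have hd : Nat.gcd 2 (q - 1) ≤ 2 := Nat.le_of_dvd two_pos (Nat.gcd_dvd_left _ _)
  have h2 : Nat.gcd 2 (q - 1) = (q - 1) * (q + 1) := by
    have : Nat.gcd 2 (q - 1) * q = ((q - 1) * (q + 1)) * q := by rw [hc]; ring
    exact Nat.eq_of_mul_eq_mul_right (by omega) this
  have h3 : 1 * 3 ≤ (q - 1) * (q + 1) := Nat.mul_le_mul (by omega) (by omega)
  omega

theorem psl_simple (hF : Fintype.card F = p ^ n) (hn : 2 ≤ n) :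
    IsSimpleGroup (Matrix.ProjectiveSpecialLinearGroup (Fin 2) F) := by
  refine (CfsgLib.Perm.Dickson.psl_simple_noncomm ?_).1
  rw [Nat.card_eq_fintype_card, hF]
  calc 4 = 2 * 2 := rfl
    _ ≤ p * p := Nat.mul_le_mul (Fact.out : p.Prime).two_le (Fact.out : p.Prime).two_le
    _ = p ^ 2 := (pow_two p).symm
    _ ≤ p ^ n := Nat.pow_le_pow_right (Fact.out : p.Prime).pos hn

end CfsgLib.PushUp
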